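import Cfsg.Agent.Spec.Quad2
import Cfsg.Agent.Spec.PSL2

/-!
Standard quadratic forms in characteristic two, the Arf invariant, and elements of orthogonal
groups built as orthogonal sums.
-/

set_option autoImplicit false
set_option linter.unusedSectionVars false

namespace Cfsg.Agent.Spec

open Matrix

section conj

variable {F : Type*} [Field F] {ι κ : Type*} [Fintype ι] [DecidableEq ι] [Fintype κ]
  [DecidableEq κ]

/-- conjugation by an invertible rectangular matrix -/
def conjHom {P : Matrix κ ι F} {P' : Matrix ι κ F} (h1 : P * P' = 1) (h2 : P' * P = 1) :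
    Matrix ι ι F →+* Matrix κ κ F where
  toFun g := P * g * P'
  map_one' := by rw [Matrix.mul_one, h1]
  map_mul' g h := by
    simp only [Matrix.mul_assoc]
    rw [← Matrix.mul_assoc P' P, h2, Matrix.one_mul]
  map_zero' := by simp
  map_add' g h := by simp [Matrix.mul_add, Matrix.add_mul]

theorem conjHom_injective {P : Matrix κ ι F} {P' : Matrix ι κ F} (h1 : P * P' = 1)
    (h2 : P' * P = 1) : Function.Injective (conjHom h1 h2) :=
  Function.LeftInverse.injective (g := fun g => P' * g * P) fun g => by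
    change P' * (P * g * P') * P = g
    simp only [Matrix.mul_assoc]
    rw [h2, Matrix.mul_one, ← Matrix.mul_assoc, h2, Matrix.one_mul]

/-- the norm of `g` is not zero -/
def NZ (g : Matrix ι ι F) : Prop := ∑ i ∈ Finset.range (orderOf g), g ^ i ≠ 0

theorem orderOf_conjHom {P : Matrix κ ι F} {P' : Matrix ι κ F} (h1 : P * P' = 1)
    (h2 : P' * P = 1) (g : Matrix ι ι F) : orderOf (P * g * P') = orderOf g :=
  orderOf_injective (conjHom h1 h2).toMonoidHom (conjHom_injective h1 h2) g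

theorem NZ.conj {P : Matrix κ ι F} {P' : Matrix ι κ F} (h1 : P * P' = 1)
    (h2 : P' * P = 1) {g : Matrix ι ι F} (h : NZ g) : NZ (P * g * P') := by
  intro h0
  apply h
  apply conjHom_injective h1 h2
  rw [orderOf_conjHom h1 h2] at h0
  simp only [map_sum, map_pow, map_zero]
  exact h0

/-- the permutation matrix of a bijection -/
def permM (F : Type*) [Field F] (e : ι ≃ κ) : Matrix κ ι F := (1 : Matrix κ κ F).submatrix id e

theorem permM_mulVec (e : ι ≃ κ) (v : ι → F) : permM F e *ᵥ v = v ∘ e.symm := by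
  rw [permM, submatrix_mulVec_equiv, one_mulVec]
  rfl

theorem permM_mul_symm (e : ι ≃ κ) : permM F e * permM F e.symm = 1 := by
  rw [ext_iff_mulVec]
  intro v
  rw [← mulVec_mulVec, permM_mulVec, permM_mulVec, one_mulVec]
  funext i
  simp

theorem permM_symm_mul (e : ι ≃ κ) : permM F e.symm * permM F e = 1 := permM_mul_symm e.symm

theorem orderOf_fromBlocks (g : Matrix ι ι F) (h : Matrix κ κ F) :
    orderOf (fromBlocks g 0 0 h) = Nat.lcm (orderOf g) (orderOf h) := by
  apply Nat.dvd_antisymm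
  · rw [orderOf_dvd_iff_pow_eq_one, fromBlocks_diagonal_pow,
      orderOf_dvd_iff_pow_eq_one.1 (Nat.dvd_lcm_left _ _),
      orderOf_dvd_iff_pow_eq_one.1 (Nat.dvd_lcm_right _ _), fromBlocks_one]
  · have h1 := pow_orderOf_eq_one (fromBlocks g 0 0 h)
    rw [fromBlocks_diagonal_pow, ← fromBlocks_one, fromBlocks_inj] at h1
    exact Nat.lcm_dvd (orderOf_dvd_of_pow_eq_one h1.1) (orderOf_dvd_of_pow_eq_one h1.2.2.2)

theorem geom_sum_mul_orderOf {R : Type*} [Semiring R] (g : R) (k : ℕ) :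
    ∑ i ∈ Finset.range (k * orderOf g), g ^ i = k • ∑ i ∈ Finset.range (orderOf g), g ^ i := by
  induction k with
  | zero => simp
  | succ k ih =>
    rw [Nat.succ_mul, Finset.sum_range_add, ih, succ_nsmul]
    simp only [pow_add, mul_comm k, pow_mul, pow_orderOf_eq_one, one_pow, one_mul]

theorem NZ.fromBlocks [CharP F 2] {g : Matrix ι ι F} {h : Matrix κ κ F} {k : ℕ} (hk : Odd k)
    (e : Nat.lcm (orderOf g) (orderOf h) = k * orderOf h) (hz : NZ h) :
    NZ (fromBlocks g 0 0 h) := by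
  intro h0
  apply hz
  rw [orderOf_fromBlocks, e] at h0
  have h1 : ∑ i ∈ Finset.range (k * orderOf h), h ^ i = 0 := by
    ext a b
    have := congrFun (congrFun h0 (.inr a)) (.inr b)
    simpa [Matrix.sum_apply, fromBlocks_diagonal_pow] using this
  obtain ⟨j, rfl⟩ := hk
  rwa [geom_sum_mul_orderOf, succ_nsmul, mul_comm, mul_nsmul, two_nsmul, madd_self,
    zero_add] at h1

end conj

section arf

variable {F : Type*} [Field F] {l l' : Type*} [Fintype l] [DecidableEq l] [Fintype l']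
  [DecidableEq l']

/-- the matrix of the form `∑ xᵢ yᵢ + ∑ cⱼ vⱼ²` -/
def Uc (c : l ⊕ l → F) : Matrix (l ⊕ l) (l ⊕ l) F := fromBlocks 0 1 0 0 + diagonal c

theorem qf_Uc (c v : l ⊕ l → F) :
    qf (Uc c) v = ∑ i, v (.inl i) * v (.inr i) + ∑ j, c j * v j ^ 2 := by
  rw [Uc, qf_add_left]
  congr 1
  · simp [qf, fromBlocks_mulVec, dotProduct, Fintype.sum_sum_type]
  · simp only [qf, dotProduct, mulVec_diagonal]
    exact Finset.sum_congr rfl fun j _ => by ring

/-- the Arf invariant, before passing to the quotient -/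
def arf (c : l ⊕ l → F) : F := ∑ i, c (.inl i) * c (.inr i)

variable [CharP F 2]

theorem polar_Uc (c : l ⊕ l → F) : Uc c + (Uc c)ᵀ = J l F := by
  ext i j
  rcases i with i | i <;> rcases j with j | j <;>
    simp [Uc, J, diagonal_apply, one_apply, CharTwo.neg_eq, eq_comm]
  all_goals split_ifs with h <;> simp [h, CharTwo.add_self_eq_zero]

theorem nd_Uc (c : l ⊕ l → F) : Nd (Uc c) := by
  rw [Nd, polar_Uc]
  exact isUnit_det_J l F

theorem bf_Uc (c u v : l ⊕ l → F) :
    bf (Uc c) u v = ∑ i, u (.inl i) * v (.inr i) + ∑ i, u (.inr i) * v (.inl i) := by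
  rw [bf, polar_Uc]
  simp [J, fromBlocks_mulVec, dotProduct, Fintype.sum_sum_type, neg_mulVec, CharTwo.neg_eq]

theorem IsO.mem_symplectic {c : l ⊕ l → F} {g : Matrix (l ⊕ l) (l ⊕ l) F} (h : IsO (Uc c) g) :
    g ∈ symplecticGroup l F := by
  rw [SymplecticGroup.mem_iff', ← polar_Uc c]
  exact h.polar

theorem IsO.dk_Uc_of_fix_line {c : l ⊕ l → F} {g : Matrix (l ⊕ l) (l ⊕ l) F} (hg : IsO (Uc c) g)
    {i j : l} (hij : i ≠ j) {v : l ⊕ l → F} (hv : v ≠ 0) (hgv : g *ᵥ v = v)
    (hf : ∀ u, g *ᵥ u = u → ∃ a : F, u = a • v) : Dk (Uc c) g 1 := by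
  refine hg.dk_of_fix_line (nd_Uc c) hv hgv hf (x := Pi.single (.inl i) 1)
    (y := Pi.single (.inr i) 1) (z := Pi.single (.inl j) 1) (t := Pi.single (.inr j) 1) ?_
  simp [bf_single, Uc, hij, hij.symm]

variable (F) in
/-- the additive group of the elements `x² + x` -/
def wp : AddSubgroup F := (frobenius F 2 : F →+ F) + AddMonoidHom.id F |>.range

theorem mem_wp {a : F} : a ∈ wp F ↔ ∃ x : F, x ^ 2 + x = a := Iff.rfl

theorem wp_index [Finite F] : (wp F).index = 2 := by
  rw [wp, AddSubgroup.index_range, Nat.card_eq_two_iff' 0]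
  refine ⟨⟨1, ?_⟩, ?_, ?_⟩
  · change (1 : F) ^ 2 + 1 = 0
    rw [one_pow, CharTwo.add_self_eq_zero]
  · intro h
    exact one_ne_zero (congrArg Subtype.val h)
  · rintro ⟨x, hx⟩ h
    have h1 : x ≠ 0 := fun e => h (Subtype.ext e)
    have h2 : x * (x + 1) = 0 := by
      have : x ^ 2 + x = 0 := hx
      linear_combination this
    exact Subtype.ext (CharTwo.add_eq_zero.1 ((mul_eq_zero.1 h2).resolve_left h1))

theorem add_mem_wp [Finite F] {a b : F} (ha : a ∉ wp F) (hb : b ∉ wp F) : a + b ∈ wp F := by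
  rw [AddSubgroup.add_mem_iff_of_index_two wp_index]
  exact iff_of_false ha hb

theorem exists_sq_eq [Finite F] (a : F) : ∃ b : F, b ^ 2 = a := by
  obtain ⟨b, hb⟩ := isSquare_of_charTwo' a
  exact ⟨b, by rw [hb, pow_two]⟩

/-- forms with the same Arf invariant are isometric -/
theorem exists_tv_of_arf [Finite F] {c c' : l ⊕ l → F} (h : arf c + arf c' ∈ wp F) :
    ∃ a w, ∀ v, qf (Uc c') (tv (Uc c') a w *ᵥ v) = qf (Uc c) v := by
  choose s hs using fun j => exists_sq_eq (c j + c' j)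
  let w : l ⊕ l → F := Sum.elim (fun i => s (.inr i)) fun i => s (.inl i)
  have h1 : ∀ v, bf (Uc c') w v ^ 2 = qf (Uc c) v + qf (Uc c') v := by
    intro v
    rw [bf_Uc, qf_Uc, qf_Uc, CharTwo.add_sq, CharTwo.sum_sq, CharTwo.sum_sq]
    simp only [w, Sum.elim_inl, Sum.elim_inr, mul_pow, hs, Fintype.sum_sum_type, add_mul,
      Finset.sum_add_distrib]
    grind
  have h2 : qf (Uc c') w ∈ wp F := by
    have h3 : qf (Uc c') w = ((∑ i, s (.inr i) * s (.inl i)) ^ 2 + ∑ i, s (.inr i) * s (.inl i)) +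
        (arf c + arf c') := by
      rw [qf_Uc, CharTwo.sum_sq]
      simp only [w, Sum.elim_inl, Sum.elim_inr, mul_pow, hs, Fintype.sum_sum_type, arf,
        ← Finset.sum_add_distrib]
      exact Finset.sum_congr rfl fun i _ => by grind
    rw [h3]
    exact add_mem (mem_wp.2 ⟨_, rfl⟩) h
  obtain ⟨μ, hμ0, hμ⟩ : ∃ μ : F, μ ≠ 0 ∧ μ ^ 2 + μ = qf (Uc c') w := by
    obtain ⟨μ, hμ⟩ := mem_wp.1 h2
    by_cases h0 : μ = 0
    · exact ⟨1, one_ne_zero, by rw [← hμ, h0]; simp [CharTwo.add_self_eq_zero]⟩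
    · exact ⟨μ, h0, hμ⟩
  refine ⟨μ⁻¹, w, fun v => ?_⟩
  have h4 : μ⁻¹ + μ⁻¹ ^ 2 * (μ ^ 2 + μ) = 1 := by
    field_simp
    grind
  rw [qf_tv, h1, ← hμ, h4]
  grind

variable (F) in
/-- there is a standard form of dimension `2 n` with Arf invariant `a` and an isometry of order
`m` with Dickson invariant `d`, whose norm does not vanish if `z` holds -/
def Ex (n : ℕ) (a : F) (m : ℕ) (d : F) (z : Prop) : Prop :=
  ∃ (l : Type) (_ : Fintype l) (_ : DecidableEq l) (c : l ⊕ l → F)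
    (g : Matrix (l ⊕ l) (l ⊕ l) F),
    Fintype.card l = n ∧ arf c = a ∧ Dk (Uc c) g d ∧ orderOf g = m ∧ (z → NZ g)

theorem Ex.add {n n' m m' k : ℕ} {a a' d d' : F} {z z' : Prop} (h : Ex F n a m d z)
    (h' : Ex F n' a' m' d' z') (hk : Odd k) (e : Nat.lcm m m' = k * m') :
    Ex F (n + n') (a + a') (k * m') (d + d') z' := by
  obtain ⟨l, _, _, c, g, rfl, rfl, h1, rfl, -⟩ := h
  obtain ⟨l', _, _, c', g', rfl, rfl, h1', rfl, h2'⟩ := h'
  let σ := Equiv.sumSumSumComm l l l' l'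
  have e1 := permM_mul_symm (F := F) σ
  have e2 := permM_symm_mul (F := F) σ
  refine ⟨l ⊕ l', inferInstance, inferInstance, Sum.elim c c' ∘ σ.symm,
    permM F σ * fromBlocks g 0 0 g' * permM F σ.symm, Fintype.card_sum, ?_, ?_, ?_, ?_⟩
  · simp [arf, σ, Fintype.sum_sum_type]
  · refine Dk.transport ((nd_Uc c).fromBlocks (nd_Uc c')) e1 e2 (fun v => ?_)
      (h1.fromBlocks (nd_Uc c) (nd_Uc c') h1')
    rw [permM_mulVec, qf_fromBlocks, qf_Uc, qf_Uc, qf_Uc]
    simp [σ, Fintype.sum_sum_type]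
    ring
  · rw [orderOf_conjHom e1 e2, orderOf_fromBlocks, e]
  · exact fun hz => (NZ.fromBlocks hk e (h2' hz)).conj e1 e2

theorem Ex.add_coprime {n n' m m' : ℕ} {a a' d d' : F} {z z' : Prop} (h : Ex F n a m d z)
    (h' : Ex F n' a' m' d' z') (hk : Odd m) (e : Nat.Coprime m m') :
    Ex F (n + n') (a + a') (m * m') (d + d') z' :=
  h.add h' hk e.lcm_eq_mul

theorem Ex.final [Finite F] {n m : ℕ} {a d : F} {z : Prop} (h : Ex F n a m d z)
    (hl : Fintype.card l = n) (c₀ : l ⊕ l → F) (ha : a + arf c₀ ∈ wp F) :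
    ∃ g, Dk (Uc c₀) g d ∧ orderOf g = m ∧ (z → NZ g) := by
  obtain ⟨l', _, _, c, g, rfl, rfl, h1, rfl, h2⟩ := h
  let e := Fintype.equivOfCardEq hl.symm
  let σ := Equiv.sumCongr e e
  have e1 := permM_mul_symm (F := F) σ
  have e2 := permM_symm_mul (F := F) σ
  have h3 : arf (c ∘ σ.symm) = arf c := by
    simp only [arf, σ]
    exact (Fintype.sum_equiv e _ _ fun i => by simp).symm
  obtain ⟨b, w, hw⟩ := exists_tv_of_arf (c := c ∘ σ.symm) (c' := c₀) (by rwa [h3])
  have e3 := tv_mul_self (Uc c₀) b w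
  refine ⟨tv (Uc c₀) b w * (permM F σ * g * permM F σ.symm) * tv (Uc c₀) b w, ?_, ?_, ?_⟩
  · refine Dk.transport (nd_Uc _) e3 e3 hw (Dk.transport (nd_Uc c) e1 e2 (fun v => ?_) h1)
    rw [permM_mulVec, qf_Uc, qf_Uc]
    congr 1
    · exact (Fintype.sum_equiv e _ _ fun i => by simp [σ]).symm
    · exact (Fintype.sum_equiv σ _ _ fun i => by simp).symm
  · rw [orderOf_conjHom e3 e3, orderOf_conjHom e1 e2]
  · exact fun hz => ((h2 hz).conj e1 e2).conj e3 e3

/-! ### unipotent elements -/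

theorem ex_triv (δ : F) : Ex F 1 δ 1 0 True := by
  refine ⟨Unit, inferInstance, inferInstance, Sum.elim (fun _ => 1) fun _ => δ, 1, by simp,
    by simp [arf], Dk.one _, orderOf_one, fun _ => ?_⟩
  simp [NZ]

theorem ex_refl (δ : F) : Ex F 1 δ 2 1 True := by
  let c : Unit ⊕ Unit → F := Sum.elim (fun _ => 1) fun _ => δ
  let w : Unit ⊕ Unit → F := Pi.single (.inl ()) 1
  have h1 : qf (Uc c) w = 1 := by simp [w, qf_single, Uc, c]
  have h2 := dk_refl (nd_Uc c) (w := w) (by rw [h1]; exact one_ne_zero)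
  rw [h1, inv_one] at h2
  have h3 : tv (Uc c) 1 w ≠ 1 := by
    intro h
    have := congrFun (tv_mulVec (Uc c) 1 w (Pi.single (.inr ()) 1)) (.inl ())
    rw [h] at this
    simp [w, bf_single, Uc] at this
  have h4 : orderOf (tv (Uc c) 1 w) = 2 :=
    orderOf_eq_prime (by rw [pow_two, tv_mul_self]) h3
  refine ⟨Unit, inferInstance, inferInstance, c, _, by simp, by simp [arf, c], h2, h4, fun _ h => ?_⟩
  apply h3
  rw [h4, Finset.sum_range_succ, Finset.sum_range_one, pow_zero, pow_one] at h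
  rw [← zero_add (tv (Uc c) 1 w), ← madd_self 1, add_assoc, h, add_zero]

/-- a regular unipotent element of a four-dimensional orthogonal group -/
def u4 (δ : F) : Matrix (Fin 2 ⊕ Fin 2) (Fin 2 ⊕ Fin 2) F :=
  fromBlocks !![1, 1; 0, 1] !![δ, 0; 1, 1] 0 !![1, 0; 1, 1]

theorem ex_u4 (δ : F) : Ex F 2 δ 4 1 True := by
  let c : Fin 2 ⊕ Fin 2 → F := Sum.elim ![0, 1] ![0, δ]
  have h1 : IsO (Uc c) (u4 δ) := by
    intro v
    simp [qf_Uc, c, u4, fromBlocks_mulVec, Fintype.sum_sum_type, mulVec, dotProduct]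
    grind
  have h2 : u4 δ ^ 2 = fromBlocks 1 !![1, 1; 1, 0] 0 1 := by
    rw [pow_two, u4, fromBlocks_multiply]
    ext i j
    rcases i with i | i <;> rcases j with j | j <;> fin_cases i <;> fin_cases j <;>
      simp [CharTwo.add_self_eq_zero] <;> grind
  have h3 : u4 δ ^ 2 ^ (1 + 1) = 1 := by
    rw [pow_succ, pow_one, pow_mul, h2, pow_two, fromBlocks_multiply]
    simp [madd_self]
  have h4 : orderOf (u4 δ) = 4 := orderOf_eq_prime_pow (p := 2) (n := 1) (by
    intro h
    rw [pow_one, h2] at h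
    simpa using congrFun (congrFun h (.inl 0)) (.inr 0)) h3
  refine ⟨Fin 2, inferInstance, inferInstance, c, u4 δ, by simp, by simp [arf, c], ?_, h4,
    fun _ h => ?_⟩
  · refine h1.dk_Uc_of_fix_line (i := 0) (j := 1) (by decide) (v := Pi.single (.inl 0) 1)
      (by simp) ?_ fun u hu => ⟨u (.inl 0), ?_⟩
    · funext i
      rcases i with i | i <;> fin_cases i <;> simp [u4]
    · have e1 := congrFun hu (.inl 0)
      have e2 := congrFun hu (.inl 1)
      have e3 := congrFun hu (.inr 1)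
      simp [u4, mulVec, dotProduct, Fintype.sum_sum_type] at e1 e2 e3
      funext i
      rcases i with i | i <;> fin_cases i <;> simp <;> grind
  · rw [h4] at h
    simp only [Finset.sum_range_succ, Finset.sum_range_zero, pow_succ _ 2, h2, pow_zero,
      pow_one] at h
    have := congrFun (congrFun h (.inl 0)) (.inr 0)
    simp [u4, fromBlocks_multiply] at this
    grind

/-- a regular unipotent element of a six-dimensional orthogonal group -/
def u6 (δ : F) : Matrix (Fin 3 ⊕ Fin 3) (Fin 3 ⊕ Fin 3) F :=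
  fromBlocks !![1, 1, 0; 0, 1, 1; 0, 0, 1] !![0, 0, 0; δ, δ, 0; 1, 1, 1] 0
    !![1, 0, 0; 1, 1, 0; 1, 1, 1]

theorem ex_u6 (δ : F) : ∃ d, Ex F 3 δ 8 d False := by
  let c : Fin 3 ⊕ Fin 3 → F := Sum.elim ![0, 0, 1] ![0, 0, δ]
  have h1 : IsO (Uc c) (u6 δ) := by
    intro v
    simp [qf_Uc, c, u6, fromBlocks_mulVec, Fintype.sum_sum_type, mulVec, dotProduct,
      Fin.sum_univ_three]
    grind
  have h2 : u6 δ ^ 2 = fromBlocks !![1, 0, 1; 0, 1, 0; 0, 0, 1] !![δ, δ, 0; δ + 1, 1, 1; 0, 1, 0] 0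
      !![1, 0, 0; 0, 1, 0; 1, 0, 1] := by
    rw [pow_two, u6, fromBlocks_multiply]
    ext i j
    rcases i with i | i <;> rcases j with j | j <;> fin_cases i <;> fin_cases j <;>
      simp [CharTwo.add_self_eq_zero] <;> grind
  have h3 : u6 δ ^ 2 ^ 2 = fromBlocks 1 !![0, 1, 0; 1, 0, 0; 0, 0, 0] 0 1 := by
    rw [pow_succ, pow_one, pow_mul, h2, pow_two, fromBlocks_multiply]
    ext i j
    rcases i with i | i <;> rcases j with j | j <;> fin_cases i <;> fin_cases j <;>
      simp [CharTwo.add_self_eq_zero] <;> grind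
  have h4 : u6 δ ^ 2 ^ (2 + 1) = 1 := by
    rw [pow_succ, pow_mul, h3, pow_two, fromBlocks_multiply]
    simp [madd_self]
  have h5 : orderOf (u6 δ) = 8 := orderOf_eq_prime_pow (p := 2) (n := 2) (by
    intro h
    rw [h3] at h
    simpa using congrFun (congrFun h (.inl 0)) (.inr 1)) h4
  obtain ⟨d, hd⟩ := h1.exists_dk
  exact ⟨d, Fin 3, inferInstance, inferInstance, c, u6 δ, by simp,
    by simp [arf, c, Fin.sum_univ_three], hd, h5, False.elim⟩

end arf

end Cfsg.Agent.Spec
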