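import Cfsg.Agent.Spec.Sp4
import Cfsg.Agent.Spec.LinAff

/-!
Orbits of eigenvalues of symplectic matrices under inversion and the Frobenius map, and a lower
bound for the multiplicity of the eigenvalue one.
-/

set_option autoImplicit false
set_option linter.unusedSectionVars false

namespace Cfsg.Agent.Spec

open Matrix

section orb

variable {K : Type*} [Field K] [DecidableEq K] {q : ℕ}

/-- a finite set of field elements closed under inversion and `q`-th powers, without `0, ±1` -/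
structure EigCl (q : ℕ) (S : Finset K) : Prop where
  one_le : 1 ≤ q
  inj : ∀ x y : K, x ^ q = y ^ q → x = y
  ne_zero : ∀ x ∈ S, x ≠ 0
  ne_inv : ∀ x ∈ S, x ≠ x⁻¹
  inv_mem : ∀ x ∈ S, x⁻¹ ∈ S
  pow_mem : ∀ x ∈ S, x ^ q ∈ S

/-- `x ^ q ^ i` is `x` or its inverse -/
def Ret (q i : ℕ) (x : K) : Prop := x ^ q ^ i = x ∨ x ^ q ^ i = x⁻¹

/-- the first `d` conjugates of `x` and their inverses -/
def eigOrb (q d : ℕ) (x : K) : Finset K :=
  (Finset.range d).image (fun i => x ^ q ^ i) ∪ (Finset.range d).image fun i => (x ^ q ^ i)⁻¹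

theorem mem_eigOrb {d : ℕ} {x y : K} :
    y ∈ eigOrb q d x ↔ ∃ i < d, y = x ^ q ^ i ∨ y = (x ^ q ^ i)⁻¹ := by
  simp only [eigOrb, Finset.mem_union, Finset.mem_image, Finset.mem_range]
  constructor
  · rintro (⟨i, hi, rfl⟩ | ⟨i, hi, rfl⟩)
    · exact ⟨i, hi, Or.inl rfl⟩
    · exact ⟨i, hi, Or.inr rfl⟩
  · rintro ⟨i, hi, rfl | rfl⟩
    · exact Or.inl ⟨i, hi, rfl⟩
    · exact Or.inr ⟨i, hi, rfl⟩

namespace EigCl

variable {S : Finset K}

theorem inj_pow (h : EigCl q S) (i : ℕ) {x y : K} (e : x ^ q ^ i = y ^ q ^ i) : x = y := by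
  induction i with
  | zero => simpa using e
  | succ i ih =>
    apply ih
    apply h.inj
    rwa [← pow_mul, ← pow_mul, ← pow_succ]

theorem pow_pow_mem (h : EigCl q S) {x : K} (hx : x ∈ S) (i : ℕ) : x ^ q ^ i ∈ S := by
  induction i with
  | zero => simpa using hx
  | succ i ih => rw [pow_succ, pow_mul]; exact h.pow_mem _ ih

theorem orb_subset (h : EigCl q S) {x : K} (hx : x ∈ S) (d : ℕ) : eigOrb q d x ⊆ S := by
  intro y hy
  obtain ⟨i, -, rfl | rfl⟩ := mem_eigOrb.1 hy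
  · exact h.pow_pow_mem hx i
  · exact h.inv_mem _ (h.pow_pow_mem hx i)

theorem card_orb (h : EigCl q S) {x : K} (hx : x ∈ S) {d : ℕ}
    (hd : ∀ i, 0 < i → i < d → ¬ Ret q i x) : (eigOrb q d x).card = 2 * d := by
  have h1 : ∀ i j, i < j → j < d → x ^ q ^ i ≠ x ^ q ^ j ∧ x ^ q ^ i ≠ (x ^ q ^ j)⁻¹ := by
    intro i j hij hj
    obtain ⟨k, rfl⟩ := Nat.exists_eq_add_of_lt hij
    have e : x ^ q ^ (i + k + 1) = (x ^ q ^ (k + 1)) ^ q ^ i := by
      rw [← pow_mul, ← pow_add]
      congr 2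
      omega
    have := hd (k + 1) (by omega) (by omega)
    rw [e, ← inv_pow]
    exact ⟨fun e => this (Or.inl (h.inj_pow i e).symm),
      fun e => this (Or.inr (inv_eq_iff_eq_inv.1 (h.inj_pow i e).symm))⟩
  have h2 : Set.InjOn (fun i => x ^ q ^ i) (Finset.range d) := by
    intro i hi j hj e
    rw [Finset.coe_range, Set.mem_Iio] at hi hj
    rcases lt_trichotomy i j with hl | hl | hl
    · exact absurd e (h1 i j hl hj).1
    · exact hl
    · exact absurd e.symm (h1 j i hl hi).1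
  rw [eigOrb, Finset.card_union_of_disjoint, Finset.card_image_of_injOn h2,
    Finset.card_image_of_injOn fun i hi j hj e => h2 hi hj (inv_injective e), Finset.card_range,
    two_mul]
  rw [Finset.disjoint_left]
  intro y hy hy'
  simp only [Finset.mem_image, Finset.mem_range] at hy hy'
  obtain ⟨i, hi, rfl⟩ := hy
  obtain ⟨j, hj, e⟩ := hy'
  rcases lt_trichotomy i j with hl | rfl | hl
  · exact (h1 i j hl hj).2 e.symm
  · exact h.ne_inv _ (h.pow_pow_mem hx i) e.symm
  · exact (h1 j i hl hi).2 (inv_eq_iff_eq_inv.1 e)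

theorem ret_of_card_lt (h : EigCl q S) {x : K} (hx : x ∈ S) {d : ℕ}
    (hd : ∀ i, 0 < i → i < d → ¬ Ret q i x) (hc : S.card < 2 * (d + 1)) : Ret q d x := by
  by_contra hn
  have := Finset.card_le_card (h.orb_subset hx (d + 1))
  rw [h.card_orb hx fun i h0 hi => by
    rcases Nat.lt_succ_iff_lt_or_eq.1 hi with hi | rfl
    · exact hd i h0 hi
    · exact hn] at this
  omega

theorem split (h : EigCl q S) {x : K} (hx : x ∈ S) {d : ℕ} (h0 : 0 < d)
    (hd : ∀ i, 0 < i → i < d → ¬ Ret q i x) (hr : Ret q d x) :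
    ∃ T : Finset K, EigCl q T ∧ T.card + 2 * d = S.card ∧
      ∀ y ∈ S, y ∈ T ∨ ∀ M, x ^ M = 1 → y ^ M = 1 := by
  refine ⟨S \ eigOrb q d x, ⟨h.one_le, h.inj, fun y hy => h.ne_zero y (Finset.mem_sdiff.1 hy).1,
    fun y hy => h.ne_inv y (Finset.mem_sdiff.1 hy).1, fun y hy => ?_, fun y hy => ?_⟩, ?_,
    fun y hy => ?_⟩
  · rw [Finset.mem_sdiff] at hy ⊢
    refine ⟨h.inv_mem y hy.1, fun h1 => hy.2 ?_⟩
    obtain ⟨i, hi, e | e⟩ := mem_eigOrb.1 h1
    · exact mem_eigOrb.2 ⟨i, hi, Or.inr (inv_eq_iff_eq_inv.1 e)⟩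
    · exact mem_eigOrb.2 ⟨i, hi, Or.inl (inv_injective e)⟩
  · rw [Finset.mem_sdiff] at hy ⊢
    refine ⟨h.pow_mem y hy.1, fun h1 => hy.2 ?_⟩
    have h2 : ∀ j, j < d → (y ^ q = x ^ q ^ (j + 1) ∨ y ^ q = (x ^ q ^ (j + 1))⁻¹) →
        y ∈ eigOrb q d x := by
      intro j hj e
      rw [pow_succ, pow_mul, ← inv_pow] at e
      exact mem_eigOrb.2 ⟨j, hj, e.imp (h.inj _ _) (h.inj _ _)⟩
    obtain ⟨i, hi, e⟩ := mem_eigOrb.1 h1
    rcases i with _ | i
    · apply h2 (d - 1) (by omega)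
      rw [Nat.sub_add_cancel h0]
      rw [pow_zero, pow_one] at e
      rcases hr with hr | hr
      · rwa [hr]
      · rw [hr, inv_inv]
        exact e.symm
    · exact h2 i (by omega) e
  · rw [← h.card_orb hx hd, Finset.card_sdiff_add_card_eq_card (h.orb_subset hx d)]
  · by_cases hy' : y ∈ eigOrb q d x
    · right
      intro M hM
      obtain ⟨i, -, rfl | rfl⟩ := mem_eigOrb.1 hy'
      · rw [← pow_mul, mul_comm, pow_mul, hM, one_pow]
      · rw [inv_pow, ← pow_mul, mul_comm, pow_mul, hM, one_pow, inv_one]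
    · exact Or.inl (Finset.mem_sdiff.2 ⟨hy, hy'⟩)

theorem ret_pow (h : EigCl q S) {x : K} (hx : x ∈ S) {d : ℕ} (hr : Ret q d x) :
    x ^ (q ^ d - 1) = 1 ∨ x ^ (q ^ d + 1) = 1 :=
  hr.imp (pow_pred_eq_one (h.ne_zero x hx) (Nat.one_le_pow _ _ h.one_le))
    (pow_succ_eq_one (h.ne_zero x hx))

theorem eq_empty (h : EigCl q S) (hc : S.card ≤ 1) : S = ∅ := by
  rw [Finset.eq_empty_iff_forall_notMem]
  intro x hx
  exact h.ne_inv x hx (Finset.card_le_one.1 hc _ hx _ (h.inv_mem x hx))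

theorem single (h : EigCl q S) {x : K} (hx : x ∈ S) {d : ℕ} (h0 : 0 < d)
    (hd : ∀ i, 0 < i → i < d → ¬ Ret q i x) (hc : S.card < 2 * (d + 1)) :
    (∀ y ∈ S, y ^ (q ^ d - 1) = 1) ∨ ∀ y ∈ S, y ^ (q ^ d + 1) = 1 := by
  have hr := h.ret_of_card_lt hx hd hc
  obtain ⟨T, hT, h1, h2⟩ := h.split hx h0 hd hr
  rw [hT.eq_empty (by omega)] at h2
  exact (h.ret_pow hx hr).imp (fun e y hy => (h2 y hy).resolve_left (Finset.notMem_empty _) _ e)
    fun e y hy => (h2 y hy).resolve_left (Finset.notMem_empty _) _ e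

theorem p1 (h : EigCl q S) (hc : S.card ≤ 3) :
    (∀ y ∈ S, y ^ (q - 1) = 1) ∨ ∀ y ∈ S, y ^ (q + 1) = 1 := by
  rcases S.eq_empty_or_nonempty with rfl | ⟨x, hx⟩
  · simp
  · simpa using h.single hx one_pos (fun i h0 hi => by omega) (by omega)

theorem not_ret_one (h : EigCl q S) {x : K} (hx : x ∈ S) (h1 : x ^ (q ^ 2 - 1) ≠ 1) :
    ∀ i, 0 < i → i < 2 → ¬ Ret q i x := by
  intro i h0 hi hr
  obtain rfl : i = 1 := by omega
  apply h1
  apply pow_pred_eq_one (h.ne_zero x hx) (Nat.one_le_pow _ _ h.one_le)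
  rw [Ret, pow_one] at hr
  rw [pow_two, pow_mul]
  rcases hr with hr | hr
  · rw [hr, hr]
  · rw [hr, inv_pow, hr, inv_inv]

theorem p2 (h : EigCl q S) (hc : S.card ≤ 5) :
    (∀ y ∈ S, y ^ (q ^ 2 - 1) = 1) ∨ ∀ y ∈ S, y ^ (q ^ 2 + 1) = 1 := by
  by_cases h1 : ∀ y ∈ S, y ^ (q ^ 2 - 1) = 1
  · exact Or.inl h1
  push Not at h1
  obtain ⟨x, hx, h1⟩ := h1
  exact h.single hx two_pos (h.not_ret_one hx h1) (by omega)

theorem pair (h : EigCl q S) {x : K} (hx : x ∈ S) {d : ℕ} (h0 : 0 < d)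
    (hd : ∀ i, 0 < i → i < d → ¬ Ret q i x) (hr : Ret q d x) (hc : S.card < 2 * (d + 2))
    {M : ℕ} (hM : x ^ M = 1) :
    (∀ y ∈ S, y ^ M = 1 ∨ y ^ (q - 1) = 1) ∨ ∀ y ∈ S, y ^ M = 1 ∨ y ^ (q + 1) = 1 := by
  obtain ⟨T, hT, h1, h2⟩ := h.split hx h0 hd hr
  exact (hT.p1 (by omega)).imp
    (fun e y hy => (h2 y hy).symm.imp (fun e' => e' M hM) (e y))
    fun e y hy => (h2 y hy).symm.imp (fun e' => e' M hM) (e y)

theorem pow_mul_of_or {y : K} {a b : ℕ} (h : y ^ a = 1 ∨ y ^ b = 1) : y ^ (a * b) = 1 := by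
  rcases h with h | h
  · rw [pow_mul, h, one_pow]
  · rw [mul_comm, pow_mul, h, one_pow]

theorem p3 (h : EigCl q S) (hc : S.card ≤ 7) :
    ∃ M ∈ [q ^ 3 - 1, q ^ 3 + 1, (q ^ 2 + 1) * (q - 1), (q ^ 2 + 1) * (q + 1), q ^ 2 - 1],
      ∀ y ∈ S, y ^ M = 1 := by
  by_cases h1 : ∀ y ∈ S, y ^ (q ^ 2 - 1) = 1
  · exact ⟨_, by simp, h1⟩
  push Not at h1
  obtain ⟨x, hx, h1⟩ := h1
  have h2 := h.not_ret_one hx h1
  by_cases h3 : Ret q 2 x
  · rcases h.pair hx two_pos h2 h3 (by omega) ((h.ret_pow hx h3).resolve_left h1) with e | e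
    · exact ⟨_, by simp, fun y hy => pow_mul_of_or (e y hy)⟩
    · exact ⟨_, by simp, fun y hy => pow_mul_of_or (e y hy)⟩
  · rcases h.single hx three_pos (fun i h0 hi => by
      rcases Nat.lt_succ_iff_lt_or_eq.1 hi with hi | rfl
      · exact h2 i h0 hi
      · exact h3) (by omega) with e | e
    · exact ⟨_, by simp, e⟩
    · exact ⟨_, by simp, e⟩

theorem p4 (h : EigCl q S) (hc : S.card ≤ 9) :
    ∃ M ∈ [q ^ 4 - 1, q ^ 4 + 1, (q ^ 3 + 1) * (q - 1), (q ^ 3 - 1) * (q + 1)],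
      ∀ y ∈ S, y ^ M = 1 := by
  by_cases h1 : ∀ y ∈ S, y ^ (q ^ 4 - 1) = 1
  · exact ⟨_, by simp, h1⟩
  push Not at h1
  obtain ⟨x, hx, h1⟩ := h1
  have h2 : ∀ i, 0 < i → i < 3 → ¬ Ret q i x := by
    intro i h0 hi hr
    apply h1
    apply pow_pred_eq_one (h.ne_zero x hx) (Nat.one_le_pow _ _ h.one_le)
    have h3 : x ^ q ^ (i * 2) = x := by
      rw [mul_two, pow_add, pow_mul]
      rcases hr with hr | hr
      · rw [hr, hr]
      · rw [hr, inv_pow, hr, inv_inv]
    obtain rfl | rfl : i = 1 ∨ i = 2 := by omega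
    · rw [show 4 = 1 * 2 + 1 * 2 from rfl, pow_add, pow_mul x, h3, h3]
    · exact h3
  by_cases h3 : Ret q 3 x
  · have d1 : q - 1 ∣ q ^ 3 - 1 := by simpa using Nat.sub_dvd_pow_sub_pow q 1 3
    have d2 : q + 1 ∣ q ^ 3 + 1 := by simpa using Odd.nat_add_dvd_pow_add_pow q 1 (n := 3) (by decide)
    rcases h.ret_pow hx h3 with e | e
    · rcases h.pair hx three_pos h2 h3 (by omega) e with e | e
      · exact ⟨(q ^ 3 - 1) * (q + 1), by simp, fun y hy => pow_mul_of_or (Or.inl
          ((e y hy).elim id fun e => by obtain ⟨k, hk⟩ := d1; rw [hk, pow_mul, e, one_pow]))⟩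
      · exact ⟨_, by simp, fun y hy => pow_mul_of_or (e y hy)⟩
    · rcases h.pair hx three_pos h2 h3 (by omega) e with e | e
      · exact ⟨_, by simp, fun y hy => pow_mul_of_or (e y hy)⟩
      · exact ⟨(q ^ 3 + 1) * (q - 1), by simp, fun y hy => pow_mul_of_or (Or.inl
          ((e y hy).elim id fun e => by obtain ⟨k, hk⟩ := d2; rw [hk, pow_mul, e, one_pow]))⟩
  · rcases h.single hx four_pos (fun i h0 hi => by
      rcases Nat.lt_succ_iff_lt_or_eq.1 hi with hi | rfl
      · exact h2 i h0 hi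
      · exact h3) (by omega) with e | e
    · exact ⟨_, by simp, e⟩
    · exact ⟨_, by simp, e⟩

end EigCl

theorem card_erase_one_add_le {s : Multiset K} (hinv : (s.map fun x => x⁻¹) = s)
    (hne : ∀ x ∈ s, x ≠ 1 → x ≠ x⁻¹) {y : K} {k : ℕ} (hk : y = 1 ∨ 2 ≤ k) (hy : k ≤ s.count y) :
    (s.toFinset.erase 1).card + k ≤ Multiset.card s := by
  have h0 : ∀ z, (s.toFinset.erase 1).val.count z = if z ≠ 1 ∧ z ∈ s then 1 else 0 := by
    intro z
    rw [Multiset.count_eq_of_nodup (s.toFinset.erase 1).nodup]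
    simp only [Finset.mem_val, Finset.mem_erase, Multiset.mem_toFinset]
  by_cases h1 : y = 1
  · subst h1
    have : (s.toFinset.erase 1).val + Multiset.replicate k 1 ≤ s := by
      rw [Multiset.le_iff_count]
      intro z
      rw [Multiset.count_add, h0, Multiset.count_replicate]
      have := Multiset.one_le_count_iff_mem (a := z) (s := s)
      by_cases hz : z = 1
      · subst hz
        simpa using hy
      · rw [if_neg (Ne.symm hz)]
        split_ifs with h
        · exact this.2 h.2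
        · exact Nat.zero_le _
    simpa only [Multiset.card_add, Multiset.card_replicate, Finset.card_val] using
      Multiset.card_le_card this
  · have h2 := hk.resolve_left h1
    have h3 : y ∈ s := Multiset.one_le_count_iff_mem.1 (by omega)
    have h4 := hne y h3 h1
    have h5 := count_inv_eq hinv y
    have : (s.toFinset.erase 1).val + Multiset.replicate (k - 1) y +
        Multiset.replicate (k - 1) y⁻¹ ≤ s := by
      rw [Multiset.le_iff_count]
      intro z
      rw [Multiset.count_add, Multiset.count_add, h0, Multiset.count_replicate,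
        Multiset.count_replicate]
      have := Multiset.one_le_count_iff_mem (a := z) (s := s)
      by_cases hz : y = z
      · subst hz
        rw [if_pos rfl, if_neg h4.symm]
        split_ifs <;> omega
      · by_cases hz' : y⁻¹ = z
        · subst hz'
          rw [if_pos rfl, if_neg hz]
          split_ifs <;> omega
        · rw [if_neg hz, if_neg hz']
          split_ifs with h
          · exact this.2 h.2
          · exact Nat.zero_le _
    have := Multiset.card_le_card this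
    simp only [Multiset.card_add, Multiset.card_replicate, Finset.card_val] at this
    omega

end orb

section count

variable {F : Type*} [Field F] {ι : Type*} [Fintype ι] [DecidableEq ι]

theorem finrank_ker_pow_ge {V : Type*} [AddCommGroup V] [Module F V] [FiniteDimensional F V]
    (N : Module.End F V) {r : ℕ} {w : V} (h1 : (N ^ r) w ≠ 0) (h2 : (N ^ (r + 1)) w = 0) :
    Module.finrank F (LinearMap.ker N) + r ≤ Module.finrank F (LinearMap.ker (N ^ (r + 1))) := by
  induction r generalizing w with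
  | zero => rw [zero_add, pow_one, add_zero]
  | succ r ih =>
    have h3 := ih (w := N w) (by rwa [← Module.End.mul_apply, ← pow_succ])
      (by rwa [← Module.End.mul_apply, ← pow_succ])
    have h4 : LinearMap.ker (N ^ (r + 1)) < LinearMap.ker (N ^ (r + 1 + 1)) := by
      refine lt_of_le_of_ne (fun v hv => ?_) fun e => h1 ?_
      · rw [LinearMap.mem_ker] at hv ⊢
        rw [pow_succ', Module.End.mul_apply, hv, map_zero]
      · rwa [← LinearMap.mem_ker, e]
    have := Submodule.finrank_lt_finrank_of_lt h4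
    omega

theorem count_one_eig_ge [DecidableEq (AlgebraicClosure F)] {A : Matrix ι ι F} {r : ℕ}
    {w u : ι → F} (h1 : (A - 1) ^ r *ᵥ w ≠ 0) (h2 : (A - 1) ^ (r + 1) *ᵥ w = 0)
    (h3 : A *ᵥ u = u) (h4 : ∀ a : F, u ≠ a • ((A - 1) ^ r *ᵥ w)) :
    r + 2 ≤ (eig A).count 1 := by
  classical
  have e : ∀ k v, ((Matrix.toLin' A - 1) ^ k : Module.End F (ι → F)) v = (A - 1) ^ k *ᵥ v := by
    intro k v
    rw [← Matrix.toLin'_apply, Matrix.toLin'_pow, map_sub, Matrix.toLin'_one]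
    rfl
  have h5 := finrank_ker_pow_ge (Matrix.toLin' A - 1 : Module.End F (ι → F)) (w := w) (r := r)
    (by rwa [e]) (by rwa [e])
  have h6 : Submodule.span F {(A - 1) ^ r *ᵥ w} <
      LinearMap.ker (Matrix.toLin' A - 1 : Module.End F (ι → F)) := by
    refine lt_of_le_of_ne ?_ fun e' => ?_
    · rw [Submodule.span_singleton_le_iff_mem, LinearMap.mem_ker, ← e, ← Module.End.mul_apply,
        ← pow_succ', e, h2]
    · have : u ∈ Submodule.span F {(A - 1) ^ r *ᵥ w} := by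
        rw [e', LinearMap.mem_ker, LinearMap.sub_apply, Matrix.toLin'_apply, h3]
        simp
      obtain ⟨a, ha⟩ := Submodule.mem_span_singleton.1 this
      exact h4 a ha.symm
  have h7 := Submodule.finrank_lt_finrank_of_lt h6
  rw [finrank_span_singleton h1] at h7
  have h8 : LinearMap.ker ((Matrix.toLin' A - 1) ^ (r + 1) : Module.End F (ι → F)) ≤
      Module.End.maxGenEigenspace (Matrix.toLin' A) 1 := by
    intro v hv
    rw [Module.End.mem_maxGenEigenspace]
    exact ⟨r + 1, by rwa [one_smul]⟩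
  have h9 := Submodule.finrank_mono h8
  rw [LinearMap.finrank_maxGenEigenspace_eq, charpoly_toLin',
    Polynomial.eq_rootMultiplicity_map (algebraMap F (AlgebraicClosure F)).injective, map_one,
    ← Polynomial.count_roots] at h9
  change _ ≤ (eig A).count 1 at h9
  omega

theorem geom_sum_char_pow_mul (p : ℕ) [Fact p.Prime] [CharP F p] {A : Type*} [Ring A]
    [Algebra F A] (T : A) (j m : ℕ) : ∑ t ∈ Finset.range (p ^ j * m), T ^ t =
      (T - 1) ^ (p ^ j - 1) * ∑ i ∈ Finset.range m, (T ^ p ^ j) ^ i := by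
  have h : (∑ t ∈ Finset.range (p ^ j * m), (Polynomial.X : Polynomial F) ^ t) =
      (Polynomial.X - 1) ^ (p ^ j - 1) * ∑ i ∈ Finset.range m, (Polynomial.X ^ p ^ j) ^ i := by
    apply mul_left_cancel₀ (Polynomial.X_sub_C_ne_zero (1 : F))
    rw [map_one, mul_geom_sum, ← mul_assoc, ← pow_succ',
      Nat.sub_add_cancel (Nat.one_le_pow _ _ (Fact.out : p.Prime).pos), sub_pow_char_pow,
      one_pow, mul_geom_sum, pow_mul]
  have := congrArg (Polynomial.aeval T) h
  simpa [map_sum] using this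

end count

end Cfsg.Agent.Spec
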