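import Cfsg.Agent.Spec.LinAff

/-!
Quadratic forms in characteristic two given by matrices, and the Dickson invariant.
-/

set_option autoImplicit false
set_option linter.unusedSectionVars false

namespace Cfsg.Agent.Spec

open Matrix

section qf

variable {F : Type*} [Field F] {ι κ : Type*} [Fintype ι] [DecidableEq ι] [Fintype κ]
  [DecidableEq κ]

/-- the quadratic form with matrix `U` -/
def qf (U : Matrix ι ι F) (v : ι → F) : F := v ⬝ᵥ U *ᵥ v

/-- the polar form -/
def bf (U : Matrix ι ι F) (u v : ι → F) : F := u ⬝ᵥ (U + Uᵀ) *ᵥ v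

theorem qf_mulVec (U : Matrix κ κ F) (P : Matrix κ ι F) (v : ι → F) :
    qf U (P *ᵥ v) = qf (Pᵀ * U * P) v := by
  simp only [qf, ← mulVec_mulVec, dotProduct_mulVec v Pᵀ, vecMul_transpose]

theorem dotProduct_transpose_mulVec' (U : Matrix ι ι F) (u v : ι → F) :
    u ⬝ᵥ Uᵀ *ᵥ v = v ⬝ᵥ U *ᵥ u := by
  rw [dotProduct_mulVec, vecMul_transpose, dotProduct_comm]

theorem qf_transpose (U : Matrix ι ι F) (v : ι → F) : qf Uᵀ v = qf U v :=
  dotProduct_transpose_mulVec' U v v

theorem qf_add_left (U W : Matrix ι ι F) (v : ι → F) : qf (U + W) v = qf U v + qf W v := by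
  simp only [qf, add_mulVec, dotProduct_add]

theorem qf_add (U : Matrix ι ι F) (u v : ι → F) : qf U (u + v) = qf U u + qf U v + bf U u v := by
  simp only [qf, bf, mulVec_add, add_mulVec, dotProduct_add, add_dotProduct,
    dotProduct_transpose_mulVec']
  ring

theorem qf_smul (U : Matrix ι ι F) (a : F) (v : ι → F) : qf U (a • v) = a ^ 2 * qf U v := by
  simp only [qf, mulVec_smul, dotProduct_smul, smul_dotProduct, smul_eq_mul]
  ring

theorem bf_comm (U : Matrix ι ι F) (u v : ι → F) : bf U u v = bf U v u := by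
  simp only [bf, add_mulVec, dotProduct_add, dotProduct_transpose_mulVec', add_comm]

theorem bf_add_left (U : Matrix ι ι F) (u u' v : ι → F) :
    bf U (u + u') v = bf U u v + bf U u' v := by
  simp only [bf, add_dotProduct]

theorem bf_add_right (U : Matrix ι ι F) (u v v' : ι → F) :
    bf U u (v + v') = bf U u v + bf U u v' := by
  simp only [bf, mulVec_add, dotProduct_add]

theorem bf_smul_left (U : Matrix ι ι F) (a : F) (u v : ι → F) :
    bf U (a • u) v = a * bf U u v := by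
  simp only [bf, smul_dotProduct, smul_eq_mul]

theorem bf_smul_right (U : Matrix ι ι F) (a : F) (u v : ι → F) :
    bf U u (a • v) = a * bf U u v := by
  simp only [bf, mulVec_smul, dotProduct_smul, smul_eq_mul]

theorem qf_single (U : Matrix ι ι F) (i : ι) : qf U (Pi.single i 1) = U i i := by
  simp [qf]

theorem bf_single (U : Matrix ι ι F) (i j : ι) :
    bf U (Pi.single i 1) (Pi.single j 1) = U i j + U j i := by
  simp [bf]

theorem qf_fromBlocks (U : Matrix ι ι F) (U' : Matrix κ κ F) (v : ι ⊕ κ → F) :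
    qf (fromBlocks U 0 0 U') v = qf U (v ∘ Sum.inl) + qf U' (v ∘ Sum.inr) := by
  simp [qf, fromBlocks_mulVec, dotProduct, Fintype.sum_sum_type]

variable [CharP F 2]

theorem madd_self {α β : Type*} (A : Matrix α β F) : A + A = 0 := by
  ext i j
  simp [CharTwo.add_self_eq_zero]

theorem vadd_self {α : Type*} (v : α → F) : v + v = 0 := by
  ext i
  simp [CharTwo.add_self_eq_zero]

theorem bf_self (U : Matrix ι ι F) (v : ι → F) : bf U v v = 0 := by
  simp only [bf, add_mulVec, dotProduct_add, dotProduct_transpose_mulVec',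
    CharTwo.add_self_eq_zero]

theorem qf_add_transpose (W : Matrix ι ι F) (v : ι → F) : qf (W + Wᵀ) v = 0 := by
  rw [qf_add_left, qf_transpose, CharTwo.add_self_eq_zero]

theorem exists_of_qf_eq_zero {A : Matrix ι ι F} (h : ∀ v, qf A v = 0) : ∃ T, A = T + Tᵀ := by
  have h1 : ∀ i, A i i = 0 := fun i => by rw [← qf_single A, h]
  have h2 : ∀ i j, A j i = A i j := fun i j => by
    have := qf_add A (Pi.single i 1) (Pi.single j 1)
    rw [h, h, h, bf_single, zero_add, zero_add, eq_comm, CharTwo.add_eq_zero] at this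
    exact this.symm
  let e := Fintype.equivFin ι
  refine ⟨of fun i j => if e i < e j then A i j else 0, ?_⟩
  ext i j
  simp only [Matrix.add_apply, of_apply, transpose_apply]
  rcases lt_trichotomy (e i) (e j) with hl | hl | hl
  · rw [if_pos hl, if_neg hl.not_gt, add_zero]
  · rw [e.injective hl, h1, if_neg (lt_irrefl _), add_zero]
  · rw [if_neg hl.not_gt, if_pos hl, zero_add, h2]

theorem exists_of_qf_eq {U U' : Matrix ι ι F} (h : ∀ v, qf U v = qf U' v) :
    ∃ T, U + U' = T + Tᵀ :=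
  exists_of_qf_eq_zero fun v => by rw [qf_add_left, h, CharTwo.add_self_eq_zero]

theorem qf_eq_of_add_eq {U U' T : Matrix ι ι F} (h : U + U' = T + Tᵀ) (v : ι → F) :
    qf U v = qf U' v := by
  rw [← CharTwo.add_eq_zero, ← qf_add_left, h, qf_add_transpose]

theorem polar_eq_of_add_eq {U U' T : Matrix ι ι F} (h : U + U' = T + Tᵀ) :
    U + Uᵀ = U' + U'ᵀ := by
  have h1 : Uᵀ + U'ᵀ = T + Tᵀ := by
    rw [← transpose_add, h, transpose_add, transpose_transpose, add_comm]
  have h2 : U + Uᵀ + (U' + U'ᵀ) = 0 := by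
    rw [← madd_self (T + Tᵀ)]
    nth_rewrite 1 [← h, ← h1]
    abel
  calc U + Uᵀ = U + Uᵀ + ((U' + U'ᵀ) + (U' + U'ᵀ)) := by rw [madd_self, add_zero]
    _ = U' + U'ᵀ := by rw [← add_assoc, h2, zero_add]

/-- `g` preserves the quadratic form with matrix `U` -/
def IsO (U g : Matrix ι ι F) : Prop := ∀ v, qf U (g *ᵥ v) = qf U v

theorem IsO.one (U : Matrix ι ι F) : IsO U 1 := fun v => by rw [one_mulVec]

theorem IsO.mul {U g h : Matrix ι ι F} (hg : IsO U g) (hh : IsO U h) : IsO U (g * h) :=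
  fun v => by rw [← mulVec_mulVec, hg, hh]

theorem IsO.pow {U g : Matrix ι ι F} (hg : IsO U g) (n : ℕ) : IsO U (g ^ n) := by
  induction n with
  | zero => rw [pow_zero]; exact IsO.one U
  | succ n ih => rw [pow_succ]; exact ih.mul hg

theorem IsO.bf_eq {U g : Matrix ι ι F} (hg : IsO U g) (u v : ι → F) :
    bf U (g *ᵥ u) (g *ᵥ v) = bf U u v := by
  have h := hg (u + v)
  rw [mulVec_add, qf_add, qf_add, hg, hg] at h
  exact add_left_cancel h

theorem isometry_polar {U : Matrix ι ι F} {U' : Matrix κ κ F} {P : Matrix κ ι F}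
    (h : ∀ v, qf U' (P *ᵥ v) = qf U v) : Pᵀ * (U' + U'ᵀ) * P = U + Uᵀ := by
  obtain ⟨T, hT⟩ := exists_of_qf_eq (U := Pᵀ * U' * P) (U' := U) fun v => by rw [← qf_mulVec, h]
  rw [← polar_eq_of_add_eq hT]
  simp only [Matrix.mul_add, Matrix.add_mul, transpose_mul, transpose_transpose, Matrix.mul_assoc]

theorem IsO.polar {U g : Matrix ι ι F} (hg : IsO U g) : gᵀ * (U + Uᵀ) * g = U + Uᵀ :=
  isometry_polar hg

/-- nondegeneracy of the polar form -/
def Nd (U : Matrix ι ι F) : Prop := IsUnit (U + Uᵀ).det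

theorem Nd.inv_mul {U : Matrix ι ι F} (h : Nd U) : (U + Uᵀ)⁻¹ * (U + Uᵀ) = 1 :=
  nonsing_inv_mul _ h

theorem Nd.mul_inv {U : Matrix ι ι F} (h : Nd U) : (U + Uᵀ) * (U + Uᵀ)⁻¹ = 1 :=
  mul_nonsing_inv _ h

theorem polar_transpose (U : Matrix ι ι F) : (U + Uᵀ)ᵀ = U + Uᵀ := by
  rw [transpose_add, transpose_transpose, add_comm]

theorem Nd.trace_symm {U : Matrix ι ι F} (h : Nd U) {S : Matrix ι ι F} (hS : Sᵀ = S) :
    trace ((U + Uᵀ)⁻¹ * S) = 0 := by
  set B := (U + Uᵀ)⁻¹ with hB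
  have h1 : Bᵀ = B := by rw [hB, transpose_nonsing_inv, polar_transpose]
  have h2 : B = B * U * B + (B * U * B)ᵀ := by
    rw [transpose_mul, transpose_mul, h1, ← Matrix.mul_assoc, ← Matrix.add_mul, ← Matrix.mul_add,
      hB, h.inv_mul, Matrix.one_mul]
  rw [h2, Matrix.add_mul, trace_add, ← trace_transpose ((B * U * B)ᵀ * S), transpose_mul, hS,
    transpose_transpose, trace_mul_comm S, CharTwo.add_self_eq_zero]

theorem IsO.left_inv {U g : Matrix ι ι F} (h : Nd U) (hg : IsO U g) :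
    (U + Uᵀ)⁻¹ * gᵀ * (U + Uᵀ) * g = 1 := by
  rw [Matrix.mul_assoc, Matrix.mul_assoc, ← Matrix.mul_assoc gᵀ, hg.polar, h.inv_mul]

theorem IsO.isUnit {U g : Matrix ι ι F} (h : Nd U) (hg : IsO U g) : IsUnit g :=
  IsUnit.of_mul_eq_one_right _ (hg.left_inv h)

theorem IsO.inv_polar {U g : Matrix ι ι F} (h : Nd U) (hg : IsO U g) :
    g * (U + Uᵀ)⁻¹ * gᵀ = (U + Uᵀ)⁻¹ := by
  have h1 := mul_eq_one_comm.1 (hg.left_inv h)
  calc g * (U + Uᵀ)⁻¹ * gᵀ = g * ((U + Uᵀ)⁻¹ * gᵀ * (U + Uᵀ)) * (U + Uᵀ)⁻¹ := by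
        simp only [Matrix.mul_assoc, h.mul_inv, Matrix.mul_one]
    _ = _ := by rw [h1, Matrix.one_mul]

/-- `g` preserves the form with matrix `U` and has Dickson invariant `d` -/
def Dk (U g : Matrix ι ι F) (d : F) : Prop :=
  ∃ W, gᵀ * U * g + U = W + Wᵀ ∧ trace ((U + Uᵀ)⁻¹ * W) = d

theorem Dk.isO {U g : Matrix ι ι F} {d : F} (h : Dk U g d) : IsO U g := fun v => by
  obtain ⟨W, hW, -⟩ := h
  rw [qf_mulVec, qf_eq_of_add_eq hW]

theorem IsO.exists_dk {U g : Matrix ι ι F} (h : IsO U g) : ∃ d, Dk U g d := by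
  obtain ⟨W, hW⟩ := exists_of_qf_eq (U := gᵀ * U * g) (U' := U) fun v => by rw [← qf_mulVec, h]
  exact ⟨_, W, hW, rfl⟩

theorem Dk.unique {U g : Matrix ι ι F} (hU : Nd U) {d d' : F} (h : Dk U g d) (h' : Dk U g d') :
    d = d' := by
  obtain ⟨W, hW, rfl⟩ := h
  obtain ⟨W', hW', rfl⟩ := h'
  rw [← CharTwo.add_eq_zero, ← trace_add, ← Matrix.mul_add]
  apply hU.trace_symm
  have h1 : W + Wᵀ = W' + W'ᵀ := hW.symm.trans hW'
  calc (W + W')ᵀ = (W + W) + Wᵀ + W'ᵀ := by rw [madd_self, zero_add, transpose_add]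
    _ = W + (W + Wᵀ) + W'ᵀ := by abel
    _ = W + W' + (W'ᵀ + W'ᵀ) := by rw [h1]; abel
    _ = _ := by rw [madd_self, add_zero]

theorem Dk.one (U : Matrix ι ι F) : Dk U 1 0 :=
  ⟨0, by simp [madd_self], by simp⟩

theorem Dk.mul {U g h : Matrix ι ι F} (hU : Nd U) {d e : F} (hg : Dk U g d) (hh : Dk U h e) :
    Dk U (g * h) (d + e) := by
  have h0 := hh.isO.inv_polar hU
  obtain ⟨W, hW, rfl⟩ := hg
  obtain ⟨W', hW', rfl⟩ := hh
  refine ⟨hᵀ * W * h + W', ?_, ?_⟩
  · calc (g * h)ᵀ * U * (g * h) + U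
        = hᵀ * (gᵀ * U * g + U) * h + (hᵀ * U * h + U) := by
          rw [Matrix.mul_add, Matrix.add_mul, add_assoc, ← add_assoc (hᵀ * U * h), madd_self,
            zero_add, transpose_mul]
          simp only [Matrix.mul_assoc]
      _ = _ := by
          rw [hW, hW']
          simp only [Matrix.mul_add, Matrix.add_mul, transpose_add, transpose_mul,
            transpose_transpose, Matrix.mul_assoc]
          abel
  · rw [Matrix.mul_add, trace_add, ← Matrix.mul_assoc, trace_mul_comm, ← Matrix.mul_assoc,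
      ← Matrix.mul_assoc, h0]

theorem Dk.pow {U g : Matrix ι ι F} (hU : Nd U) {d : F} (hg : Dk U g d) (n : ℕ) :
    Dk U (g ^ n) (n * d) := by
  induction n with
  | zero => simpa using Dk.one U
  | succ n ih =>
    rw [pow_succ, Nat.cast_succ, add_mul, one_mul]
    exact ih.mul hU hg

theorem IsO.dk_of_odd {U g : Matrix ι ι F} (hU : Nd U) (hg : IsO U g) {m : ℕ} (hm : Odd m)
    (h : g ^ m = 1) : Dk U g 0 := by
  obtain ⟨d, hd⟩ := hg.exists_dk
  have h1 := hd.pow hU m
  rw [h] at h1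
  have h2 := h1.unique hU (Dk.one U)
  obtain ⟨k, rfl⟩ := hm
  have h3 : ((2 * k + 1 : ℕ) : F) = 1 := by
    rw [Nat.cast_succ, Nat.cast_mul, CharP.cast_eq_zero, zero_mul, zero_add]
  rw [h3, one_mul] at h2
  rwa [h2] at hd

/-- an isometry preserving a bilinear form representing the quadratic form has invariant zero -/
theorem dk_zero_of_fixed {U g X T : Matrix ι ι F} (hU : Nd U) (hg : IsO U g)
    (h1 : U + X = T + Tᵀ) (h2 : gᵀ * X * g = X) : Dk U g 0 := by
  have h0 := hg.inv_polar hU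
  have h3 : U = X + (T + Tᵀ) := by
    rw [← h1, add_comm U, ← add_assoc, madd_self, zero_add]
  refine ⟨gᵀ * T * g + T, ?_, ?_⟩
  · rw [h3]
    simp only [Matrix.mul_add, Matrix.add_mul, transpose_add, transpose_mul,
      transpose_transpose, h2, Matrix.mul_assoc gᵀ]
    rw [← add_zero (_ + _ + (_ + Tᵀ)), ← madd_self X]
    simp only [← Matrix.mul_assoc]
    abel
  · rw [Matrix.mul_add, trace_add, ← Matrix.mul_assoc, trace_mul_comm, ← Matrix.mul_assoc,
      ← Matrix.mul_assoc, h0, CharTwo.add_self_eq_zero]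

theorem IsO.dk_of_fpf {U g : Matrix ι ι F} (hU : Nd U) (hg : IsO U g)
    (hf : ∀ v, g *ᵥ v = v → v = 0) : Dk U g 0 := by
  have h1 : IsUnit (1 + g).det := by
    rw [isUnit_iff_ne_zero, Ne, ← Matrix.exists_mulVec_eq_zero_iff]
    rintro ⟨v, hv, h⟩
    apply hv (hf v _)
    rw [add_mulVec, one_mulVec] at h
    calc g *ᵥ v = (v + v) + g *ᵥ v := by rw [vadd_self, zero_add]
      _ = v := by rw [add_assoc, h, add_zero]
  set y := (1 + g)⁻¹ with hy
  have h2 : (1 + g) * y = 1 := mul_nonsing_inv _ h1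
  have h3 : y * (1 + g) = 1 := nonsing_inv_mul _ h1
  have h4 : y * g = g * y := by
    have : y + y * g = y + g * y := by
      rw [Matrix.add_mul, Matrix.one_mul] at h2
      rw [Matrix.mul_add, Matrix.mul_one] at h3
      rw [h2, h3]
    exact add_left_cancel this
  obtain ⟨T, hT⟩ := exists_of_qf_eq (U := U) (U' := yᵀ * ((U + Uᵀ) * g) * y) fun v => by
    rw [← qf_mulVec]
    conv_lhs => rw [← one_mulVec v, ← h2, ← mulVec_mulVec, add_mulVec, one_mulVec, qf_add, hg,
      CharTwo.add_self_eq_zero, zero_add]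
    simp only [bf, qf, mulVec_mulVec, Matrix.mul_assoc]
  refine dk_zero_of_fixed hU hg hT ?_
  calc gᵀ * (yᵀ * ((U + Uᵀ) * g) * y) * g
      = (y * g)ᵀ * (U + Uᵀ) * g * (y * g) := by simp only [transpose_mul, Matrix.mul_assoc]
    _ = yᵀ * (gᵀ * (U + Uᵀ) * g) * g * y := by
        rw [h4]; simp only [transpose_mul, Matrix.mul_assoc]
    _ = _ := by rw [hg.polar]; simp only [Matrix.mul_assoc]

/-- the transvection `v ↦ v + a * B(v, w) w` -/
def tv (U : Matrix ι ι F) (a : F) (w : ι → F) : Matrix ι ι F :=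
  1 + a • (vecMulVec w w * (U + Uᵀ))

theorem tv_mulVec (U : Matrix ι ι F) (a : F) (w v : ι → F) :
    tv U a w *ᵥ v = v + (a * bf U w v) • w := by
  rw [tv, add_mulVec, one_mulVec, smul_mulVec, ← mulVec_mulVec, vecMulVec_mulVec, bf, mul_smul,
    op_smul_eq_smul]

theorem tv_mul_self (U : Matrix ι ι F) (a : F) (w : ι → F) : tv U a w * tv U a w = 1 := by
  rw [ext_iff_mulVec]
  intro v
  rw [← mulVec_mulVec, tv_mulVec, tv_mulVec, bf_add_right, bf_smul_right, bf_self, mul_zero,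
    add_zero, add_assoc, vadd_self, add_zero, one_mulVec]

theorem qf_tv (U : Matrix ι ι F) (a : F) (w v : ι → F) :
    qf U (tv U a w *ᵥ v) = qf U v + (a + a ^ 2 * qf U w) * bf U w v ^ 2 := by
  rw [tv_mulVec, qf_add, qf_smul, bf_smul_right, bf_comm U v w]
  ring

theorem dk_refl {U : Matrix ι ι F} (hU : Nd U) {w : ι → F} (hw : qf U w ≠ 0) :
    Dk U (tv U (qf U w)⁻¹ w) 1 := by
  set c := (qf U w)⁻¹ with hc
  set B := U + Uᵀ with hB
  set M := vecMulVec w w with hM
  have h1 : Bᵀ = B := polar_transpose U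
  have h2 : Mᵀ = M := transpose_vecMulVec w w
  have h3 : M * U * M = qf U w • M := by
    rw [hM, vecMulVec_mul, vecMulVec_mul_vecMulVec, ← dotProduct_mulVec, qf, vecMulVec_smul]
  refine ⟨c • (U * M * B), ?_, ?_⟩
  · have h4 : c • c • (B * (M * U * M) * B) = c • (B * M * U) + c • (B * M * Uᵀ) := by
      rw [h3, Matrix.mul_smul, Matrix.smul_mul, smul_smul c (qf U w), hc, inv_mul_cancel₀ hw,
        one_smul, ← smul_add, ← Matrix.mul_add]
    rw [tv, ← hB, ← hM]
    simp only [transpose_add, transpose_one, transpose_smul, transpose_mul, h1, h2,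
      Matrix.add_mul, Matrix.mul_add, Matrix.one_mul, Matrix.mul_one, Matrix.smul_mul,
      Matrix.mul_smul, Matrix.mul_assoc, smul_add] at h4 ⊢
    rw [h4, ← add_zero (c • (U * (M * B)) + c • (B * (M * Uᵀ))),
      ← madd_self (U + c • (B * (M * U)))]
    abel
  · rw [Matrix.mul_smul, trace_smul, ← Matrix.mul_assoc, trace_mul_comm, ← Matrix.mul_assoc,
      hU.mul_inv, Matrix.one_mul, hM, mul_vecMulVec, trace_vecMulVec, dotProduct_comm, smul_eq_mul]
    exact inv_mul_cancel₀ hw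

theorem Nd.exists_bf_ne_zero {U : Matrix ι ι F} (hU : Nd U) {v : ι → F} (hv : v ≠ 0) :
    ∃ w, bf U w v ≠ 0 := by
  by_contra h
  push Not at h
  apply hv
  have h1 : (U + Uᵀ) *ᵥ v = 0 := by
    funext i
    have := h (Pi.single i 1)
    rwa [bf, single_one_dotProduct] at this
  rw [← one_mulVec v, ← hU.inv_mul, ← mulVec_mulVec, h1, mulVec_zero]

/-- an isometry with one-dimensional fixed space has Dickson invariant one -/
theorem IsO.dk_of_fix_line {U g : Matrix ι ι F} (hU : Nd U) (hg : IsO U g) {v : ι → F}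
    (hv : v ≠ 0) (hgv : g *ᵥ v = v) (hf : ∀ u, g *ᵥ u = u → ∃ a : F, u = a • v)
    {x y z t : ι → F} (h4 : bf U x y * bf U z t + bf U x z * bf U y t + bf U x t * bf U y z ≠ 0) :
    Dk U g 1 := by
  have h1 : ∃ w, bf U w v ≠ 0 ∧ qf U w ≠ 0 := by
    by_contra hc
    push Not at hc
    obtain ⟨w, hw⟩ := hU.exists_bf_ne_zero hv
    have h2 : ∀ u, bf U u v = 0 → qf U u = bf U w u := fun u hu => by
      have := hc (w + u) (by rwa [bf_add_left, hu, add_zero])
      rwa [qf_add, hc w hw, zero_add, CharTwo.add_eq_zero] at this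
    have h3 : ∀ u u', bf U u v = 0 → bf U u' v = 0 → bf U u u' = 0 := fun u u' hu hu' => by
      have := h2 (u + u') (by rw [bf_add_left, hu, hu', add_zero])
      rw [qf_add, h2 u hu, h2 u' hu', bf_add_right] at this
      exact add_eq_left.1 this
    have h5 : ∀ u, bf U (u + (bf U u v / bf U w v) • w) v = 0 := fun u => by
      rw [bf_add_left, bf_smul_left, div_mul_cancel₀ _ hw, CharTwo.add_self_eq_zero]
    have h6 : ∀ u u', bf U u u' = (bf U u v / bf U w v) * bf U w u' +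
        (bf U u' v / bf U w v) * bf U w u := fun u u' => by
      have := h3 _ _ (h5 u) (h5 u')
      simp only [bf_add_left, bf_add_right, bf_smul_left, bf_smul_right, bf_self, mul_zero,
        add_zero] at this
      rw [bf_comm U u w, add_assoc, CharTwo.add_eq_zero] at this
      rw [this, add_comm]
    apply h4
    rw [h6 x y, h6 z t, h6 x z, h6 y t, h6 x t, h6 y z]
    have h2' : (2 : F) = 0 := CharTwo.two_eq_zero
    generalize bf U x v / bf U w v = a1
    generalize bf U y v / bf U w v = a2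
    generalize bf U z v / bf U w v = a3
    generalize bf U t v / bf U w v = a4
    linear_combination (a1 * a2 * bf U w z * bf U w t + a1 * a3 * bf U w y * bf U w t +
      a1 * a4 * bf U w y * bf U w z + a2 * a3 * bf U w x * bf U w t +
      a2 * a4 * bf U w x * bf U w z + a3 * a4 * bf U w x * bf U w y) * h2'
  obtain ⟨w, hw, hq⟩ := h1
  have h2 := dk_refl hU hq
  obtain ⟨d, hd⟩ := hg.exists_dk
  have h3 := (h2.isO.mul hg).dk_of_fpf hU fun u hu => by
    rw [← mulVec_mulVec, tv_mulVec] at hu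
    have h5 := congrArg (fun x => bf U x v) hu
    simp only [bf_add_left, bf_smul_left] at h5
    nth_rewrite 1 [← hgv] at h5
    rw [hg.bf_eq, add_eq_left, mul_eq_zero, or_iff_left hw] at h5
    rw [h5, zero_smul, add_zero] at hu
    rw [hu, mul_eq_zero, or_iff_right (inv_ne_zero hq)] at h5
    obtain ⟨a, rfl⟩ := hf u hu
    rw [bf_smul_right, mul_eq_zero, or_iff_left hw] at h5
    rw [h5, zero_smul]
  have h5 := (h2.mul hU hd).unique hU h3
  rw [CharTwo.add_eq_zero] at h5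
  rwa [h5]

/-! ### transport along isometries and orthogonal sums -/

theorem Dk.transport {U : Matrix ι ι F} {U' : Matrix κ κ F} {P : Matrix κ ι F} {P' : Matrix ι κ F}
    (hU : Nd U) (h1 : P * P' = 1) (h2 : P' * P = 1) (h : ∀ v, qf U' (P *ᵥ v) = qf U v)
    {g : Matrix ι ι F} {d : F} (hg : Dk U g d) : Dk U' (P * g * P') d := by
  have h0 := hg.isO.inv_polar hU
  have h3 := isometry_polar h
  obtain ⟨T, hT⟩ := exists_of_qf_eq (U := Pᵀ * U' * P) (U' := U) fun v => by rw [← qf_mulVec, h]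
  have h1' : P'ᵀ * Pᵀ = 1 := by rw [← transpose_mul, h1, transpose_one]
  have h2' : Pᵀ * P'ᵀ = 1 := by rw [← transpose_mul, h2, transpose_one]
  have h4 : (U' + U'ᵀ)⁻¹ = P * (U + Uᵀ)⁻¹ * Pᵀ := by
    apply inv_eq_left_inv
    calc P * (U + Uᵀ)⁻¹ * Pᵀ * (U' + U'ᵀ)
        = P * ((U + Uᵀ)⁻¹ * (Pᵀ * (U' + U'ᵀ) * P)) * P' := by
          simp only [Matrix.mul_assoc, h1, Matrix.mul_one]
      _ = 1 := by rw [h3, hU.inv_mul, Matrix.mul_one, h1]
  have h5 : Pᵀ * U' * P = U + (T + Tᵀ) := by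
    rw [← hT, add_comm (Pᵀ * U' * P), ← add_assoc, madd_self, zero_add]
  obtain ⟨W, hW, rfl⟩ := hg
  refine ⟨P'ᵀ * (W + (gᵀ * T * g + T)) * P', ?_, ?_⟩
  · calc (P * g * P')ᵀ * U' * (P * g * P') + U'
        = P'ᵀ * (gᵀ * (Pᵀ * U' * P) * g + Pᵀ * U' * P) * P' := by
          simp only [Matrix.mul_add, Matrix.add_mul, transpose_mul, Matrix.mul_assoc, h1,
            Matrix.mul_one]
          rw [← Matrix.mul_assoc P'ᵀ Pᵀ, h1', Matrix.one_mul]
      _ = P'ᵀ * ((gᵀ * U * g + U) + ((gᵀ * T * g + T) + (gᵀ * T * g + T)ᵀ)) * P' := by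
          rw [h5]
          simp only [Matrix.mul_add, Matrix.add_mul, transpose_mul, transpose_add,
            transpose_transpose, Matrix.mul_assoc]
          abel
      _ = _ := by
          rw [hW]
          simp only [Matrix.mul_add, Matrix.add_mul, transpose_mul, transpose_add,
            transpose_transpose, Matrix.mul_assoc]
          abel
  · calc trace ((U' + U'ᵀ)⁻¹ * (P'ᵀ * (W + (gᵀ * T * g + T)) * P'))
        = trace (P * ((U + Uᵀ)⁻¹ * (Pᵀ * P'ᵀ) * (W + (gᵀ * T * g + T))) * P') := by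
          rw [h4]; simp only [Matrix.mul_assoc]
      _ = trace ((U + Uᵀ)⁻¹ * (W + (gᵀ * T * g + T))) := by
          rw [trace_mul_comm, ← Matrix.mul_assoc, h2, h2', Matrix.one_mul, Matrix.mul_one]
      _ = _ := by
          rw [Matrix.mul_add, Matrix.mul_add, trace_add, trace_add, ← Matrix.mul_assoc,
            trace_mul_comm _ g, ← Matrix.mul_assoc, ← Matrix.mul_assoc, h0,
            CharTwo.add_self_eq_zero, add_zero]

theorem Nd.fromBlocks {U : Matrix ι ι F} {U' : Matrix κ κ F} (h : Nd U) (h' : Nd U') :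
    Nd (fromBlocks U 0 0 U') := by
  rw [Nd, fromBlocks_transpose, fromBlocks_add]
  simp only [transpose_zero, add_zero, det_fromBlocks_zero₂₁]
  exact IsUnit.mul h h'

theorem Dk.fromBlocks {U g : Matrix ι ι F} {U' g' : Matrix κ κ F} (h : Nd U) (h' : Nd U')
    {d d' : F} (hg : Dk U g d) (hg' : Dk U' g' d') :
    Dk (fromBlocks U 0 0 U') (fromBlocks g 0 0 g') (d + d') := by
  obtain ⟨W, hW, rfl⟩ := hg
  obtain ⟨W', hW', rfl⟩ := hg'
  refine ⟨Matrix.fromBlocks W 0 0 W', ?_, ?_⟩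
  · simp [fromBlocks_transpose, fromBlocks_multiply, fromBlocks_add, hW, hW']
  · have : (Matrix.fromBlocks U 0 0 U' + (Matrix.fromBlocks U 0 0 U')ᵀ)⁻¹ =
        Matrix.fromBlocks (U + Uᵀ)⁻¹ 0 0 (U' + U'ᵀ)⁻¹ := by
      apply inv_eq_left_inv
      simp [fromBlocks_transpose, fromBlocks_multiply, fromBlocks_add, h.inv_mul, h'.inv_mul]
    rw [this]
    simp [fromBlocks_multiply, trace, Fintype.sum_sum_type]

end qf

end Cfsg.Agent.Spec
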