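import Cfsg.Agent.Spec.PRefl
import Cfsg.Prelude.Def_LieTwisted

/-!
The adjoint module of `G₂` in characteristic 3: the 7-dimensional submodule and its exterior
square.
-/

set_option autoImplicit false

namespace Cfsg.Agent.Spec.Ree

open Matrix Cfsg.Agent.Spec.PR Cfsg.Lie

section generic

variable (D : ChevalleyDatum)

/-- the entries of a root element as lists of (exponent, coefficient) -/
def xP (r : Fin D.nroots) (row col : D.Idx) : List (ℕ × ℤ) :=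
  match col with
  | Sum.inl i =>
    (match row with
     | Sum.inl i' => if i' = i then [(0, 1)] else []
     | Sum.inr u => if u = r then [(1, -((D.cartanSR.getD i.val #[]).getD r.val 0))] else [])
  | Sum.inr s =>
    if s = r then (match row with | Sum.inr u => if u = r then [(0, 1)] else [] | Sum.inl _ => [])
    else if s.val = D.negIdx.getD r.val 0 then
      (match row with
       | Sum.inl i => [(1, (D.coroot.getD r.val #[]).getD i.val 0)]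
       | Sum.inr u => if u = s then [(0, 1)] else if u = r then [(2, -1)] else [])
    else
      (match row with
       | Sum.inl _ => []
       | Sum.inr u => (if u = s then [(0, 1)] else []) ++ D.chainCoeff r.val s.val u.val)

theorem xMat_eq {F : Type*} [Field F] (r : Fin D.nroots) (t : F) (row col : D.Idx) :
    D.xMat F r t row col = ((xP D r row col).map fun km => ((km.2 : ℤ) : F) * t ^ km.1).sum := by
  unfold ChevalleyDatum.xMat xP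
  rw [of_apply]
  rcases col with i | s <;> rcases row with i' | u <;> dsimp only <;> split_ifs <;> simp

end generic

def XT : List (List (List (List (ℕ × ℕ)))) :=
  [[[[(0,1)],[],[],[],[],[],[],[],[],[],[],[],[],[]],[[],[(0,1)],[],[],[],[],[],[],[],[],[],[],[],[]],[[],[],[(0,1)],[],[],[],[],[],[],[],[],[],[],[]],[[],[],[],[(0,1)],[],[],[],[(1,2)],[],[],[],[],[],[]],[[],[],[],[],[(0,1)],[],[],[],[],[],[],[],[],[]],[[(1,2)],[],[],[],[],[(0,1)],[],[],[],[],[],[],[],[]],[[],[(1,1)],[],[],[],[],[(0,1)],[],[],[],[],[],[],[]],[[],[],[],[],[],[],[],[(0,1)],[],[],[],[],[],[]],[[],[],[],[],[],[],[],[],[(0,1)],[],[],[],[],[]],[[],[],[],[],[],[],[],[],[],[(0,1)],[],[],[],[]],[[],[],[],[],[],[],[],[(1,1)],[],[],[(0,1)],[],[],[]],[[],[],[],[],[],[],[],[],[(1,2)],[],[],[(0,1)],[],[]],[[],[],[],[],[],[],[],[],[],[(1,1)],[],[],[(0,1)],[]],[[],[],[],[],[],[],[],[(2,2)],[],[],[(1,1)],[],[],[(0,1)]]],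
  [[[(0,1)],[],[],[],[],[],[],[],[],[],[],[],[],[]],[[],[(0,1)],[],[],[],[],[],[],[],[],[],[],[],[]],[[],[],[(0,1)],[],[],[],[],[],[],[],[],[],[],[]],[[],[],[],[(0,1)],[],[],[],[],[(1,2)],[],[],[],[],[]],[[(1,2)],[],[],[],[(0,1)],[],[],[],[],[],[],[],[],[]],[[],[],[],[],[],[(0,1)],[],[],[],[],[],[],[],[]],[[],[],[(1,1)],[],[],[],[(0,1)],[],[],[],[],[],[],[]],[[],[],[],[],[],[],[],[(0,1)],[],[],[],[],[],[]],[[],[],[],[],[],[],[],[],[(0,1)],[],[],[],[],[]],[[],[],[],[],[],[],[],[(1,2)],[],[(0,1)],[],[],[],[]],[[],[],[],[],[],[],[],[],[(1,2)],[],[(0,1)],[],[],[]],[[],[],[],[],[],[],[],[],[],[],[],[(0,1)],[],[]],[[],[],[],[],[],[],[],[],[(2,2)],[],[(1,2)],[],[(0,1)],[]],[[],[],[],[],[],[],[],[],[],[],[],[(1,1)],[],[(0,1)]]],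
  [[[(0,1)],[],[],[],[],[],[],[],[],[],[],[],[],[]],[[],[(0,1)],[],[],[],[],[],[(1,2)],[],[],[],[],[],[]],[[],[],[(0,1)],[],[],[],[],[],[(1,2)],[],[],[],[],[]],[[(1,1)],[],[],[(0,1)],[],[],[],[],[],[],[],[],[],[]],[[],[(1,2)],[],[],[(0,1)],[],[],[(2,2)],[],[],[],[],[],[]],[[],[],[(1,1)],[],[],[(0,1)],[],[],[(2,1)],[],[],[],[],[]],[[(2,2)],[],[],[(1,1)],[],[],[(0,1)],[],[],[],[],[],[],[]],[[],[],[],[],[],[],[],[(0,1)],[],[],[],[],[],[]],[[],[],[],[],[],[],[],[],[(0,1)],[],[],[],[],[]],[[],[],[],[],[],[],[],[],[],[(0,1)],[],[],[],[]],[[],[],[],[],[],[],[],[],[],[],[(0,1)],[],[],[]],[[],[],[],[],[],[],[],[],[],[],[],[(0,1)],[],[]],[[],[],[],[],[],[],[],[(3,2)],[],[],[],[],[(0,1)],[]],[[],[],[],[],[],[],[],[],[(3,1)],[],[],[],[],[(0,1)]]],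
  [[[(0,1)],[],[],[],[],[],[],[(1,1)],[],[],[],[],[],[]],[[],[(0,1)],[],[],[],[],[],[],[],[],[],[],[],[]],[[(1,2)],[],[(0,1)],[],[],[],[],[(2,1)],[],[],[],[],[],[]],[[],[(1,2)],[],[(0,1)],[],[],[],[],[],[],[],[],[],[]],[[],[],[],[],[(0,1)],[],[],[],[],[(1,1)],[],[],[],[]],[[],[(2,2)],[],[(1,2)],[],[(0,1)],[],[],[],[],[(1,1)],[],[],[]],[[],[],[],[],[(1,1)],[],[(0,1)],[],[],[(2,2)],[],[],[],[]],[[],[],[],[],[],[],[],[(0,1)],[],[],[],[],[],[]],[[],[],[],[],[],[],[],[],[(0,1)],[],[],[],[],[]],[[],[],[],[],[],[],[],[],[],[(0,1)],[],[],[],[]],[[],[],[],[],[],[],[],[],[],[],[(0,1)],[],[],[]],[[],[],[],[],[],[],[],[(3,2)],[],[],[],[(0,1)],[],[]],[[],[],[],[],[],[],[],[],[],[],[],[],[(0,1)],[]],[[],[],[],[],[],[],[],[],[],[(3,1)],[],[],[],[(0,1)]]],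
  [[[(0,1)],[],[],[],[],[],[],[],[(1,1)],[],[],[],[],[]],[[(1,1)],[(0,1)],[],[],[],[],[],[],[(2,2)],[],[],[],[],[]],[[],[],[(0,1)],[],[],[],[],[],[],[],[],[],[],[]],[[],[],[(1,2)],[(0,1)],[],[],[],[],[],[],[],[],[],[]],[[],[],[(2,2)],[(1,2)],[(0,1)],[],[],[],[],[],[(1,2)],[],[],[]],[[],[],[],[],[],[(0,1)],[],[],[],[],[],[(1,1)],[],[]],[[],[],[],[],[],[(1,2)],[(0,1)],[],[],[],[],[(2,1)],[],[]],[[],[],[],[],[],[],[],[(0,1)],[],[],[],[],[],[]],[[],[],[],[],[],[],[],[],[(0,1)],[],[],[],[],[]],[[],[],[],[],[],[],[],[],[(3,1)],[(0,1)],[],[],[],[]],[[],[],[],[],[],[],[],[],[],[],[(0,1)],[],[],[]],[[],[],[],[],[],[],[],[],[],[],[],[(0,1)],[],[]],[[],[],[],[],[],[],[],[],[],[],[],[(3,2)],[(0,1)],[]],[[],[],[],[],[],[],[],[],[],[],[],[],[],[(0,1)]]],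
  [[[(0,1)],[],[],[],[],[],[],[],[],[],[],[],[],[]],[[],[(0,1)],[],[],[],[],[],[],[],[],[],[],[],[]],[[],[(1,1)],[(0,1)],[],[],[],[],[],[],[],[],[],[],[]],[[],[],[],[(0,1)],[],[],[],[],[],[],[],[],[],[]],[[],[],[],[],[(0,1)],[],[],[],[],[],[],[],[],[]],[[],[],[],[],[(1,2)],[(0,1)],[],[],[],[],[],[],[],[]],[[],[],[],[],[],[],[(0,1)],[],[],[],[],[],[],[]],[[],[],[],[],[],[],[],[(0,1)],[],[],[],[],[],[]],[[],[],[],[],[],[],[],[(1,1)],[(0,1)],[],[],[],[],[]],[[],[],[],[],[],[],[],[],[],[(0,1)],[],[],[],[]],[[],[],[],[],[],[],[],[],[],[(1,2)],[(0,1)],[],[],[]],[[],[],[],[],[],[],[],[],[],[(2,2)],[(1,2)],[(0,1)],[],[]],[[],[],[],[],[],[],[],[],[],[],[],[],[(0,1)],[]],[[],[],[],[],[],[],[],[],[],[],[],[],[(1,2)],[(0,1)]]],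
  [[[(0,1)],[],[],[],[],[],[],[],[],[],[],[],[],[]],[[],[(0,1)],[(1,1)],[],[],[],[],[],[],[],[],[],[],[]],[[],[],[(0,1)],[],[],[],[],[],[],[],[],[],[],[]],[[],[],[],[(0,1)],[],[],[],[],[],[],[],[],[],[]],[[],[],[],[],[(0,1)],[(1,2)],[],[],[],[],[],[],[],[]],[[],[],[],[],[],[(0,1)],[],[],[],[],[],[],[],[]],[[],[],[],[],[],[],[(0,1)],[],[],[],[],[],[],[]],[[],[],[],[],[],[],[],[(0,1)],[(1,1)],[],[],[],[],[]],[[],[],[],[],[],[],[],[],[(0,1)],[],[],[],[],[]],[[],[],[],[],[],[],[],[],[],[(0,1)],[(1,1)],[(2,2)],[],[]],[[],[],[],[],[],[],[],[],[],[],[(0,1)],[(1,1)],[],[]],[[],[],[],[],[],[],[],[],[],[],[],[(0,1)],[],[]],[[],[],[],[],[],[],[],[],[],[],[],[],[(0,1)],[(1,2)]],[[],[],[],[],[],[],[],[],[],[],[],[],[],[(0,1)]]],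
  [[[(0,1)],[(1,1)],[],[],[],[],[],[],[],[(2,1)],[],[],[],[]],[[],[(0,1)],[],[],[],[],[],[],[],[(1,2)],[],[],[],[]],[[],[],[(0,1)],[(1,1)],[(2,2)],[],[],[],[],[],[(1,1)],[],[],[]],[[],[],[],[(0,1)],[(1,1)],[],[],[],[],[],[],[],[],[]],[[],[],[],[],[(0,1)],[],[],[],[],[],[],[],[],[]],[[],[],[],[],[],[(0,1)],[(1,2)],[],[],[],[],[],[(2,2)],[]],[[],[],[],[],[],[],[(0,1)],[],[],[],[],[],[(1,2)],[]],[[],[],[],[],[],[],[],[(0,1)],[],[],[],[],[],[]],[[],[],[],[],[],[],[],[],[(0,1)],[(3,1)],[],[],[],[]],[[],[],[],[],[],[],[],[],[],[(0,1)],[],[],[],[]],[[],[],[],[],[],[],[],[],[],[],[(0,1)],[],[],[]],[[],[],[],[],[],[],[],[],[],[],[],[(0,1)],[(3,2)],[]],[[],[],[],[],[],[],[],[],[],[],[],[],[(0,1)],[]],[[],[],[],[],[],[],[],[],[],[],[],[],[],[(0,1)]]],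
  [[[(0,1)],[],[(1,2)],[],[],[],[],[],[],[],[],[(2,2)],[],[]],[[],[(0,1)],[],[(1,1)],[],[(2,2)],[],[],[],[],[(1,2)],[],[],[]],[[],[],[(0,1)],[],[],[],[],[],[],[],[],[(1,2)],[],[]],[[],[],[],[(0,1)],[],[(1,1)],[],[],[],[],[],[],[],[]],[[],[],[],[],[(0,1)],[],[(1,1)],[],[],[],[],[],[],[(2,1)]],[[],[],[],[],[],[(0,1)],[],[],[],[],[],[],[],[]],[[],[],[],[],[],[],[(0,1)],[],[],[],[],[],[],[(1,2)]],[[],[],[],[],[],[],[],[(0,1)],[],[],[],[(3,2)],[],[]],[[],[],[],[],[],[],[],[],[(0,1)],[],[],[],[],[]],[[],[],[],[],[],[],[],[],[],[(0,1)],[],[],[],[(3,1)]],[[],[],[],[],[],[],[],[],[],[],[(0,1)],[],[],[]],[[],[],[],[],[],[],[],[],[],[],[],[(0,1)],[],[]],[[],[],[],[],[],[],[],[],[],[],[],[],[(0,1)],[]],[[],[],[],[],[],[],[],[],[],[],[],[],[],[(0,1)]]],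
  [[[(0,1)],[],[],[(1,2)],[],[],[(2,2)],[],[],[],[],[],[],[]],[[],[(0,1)],[],[],[(1,2)],[],[],[],[],[],[],[],[(2,1)],[]],[[],[],[(0,1)],[],[],[(1,1)],[],[],[],[],[],[],[],[(2,2)]],[[],[],[],[(0,1)],[],[],[(1,2)],[],[],[],[],[],[],[]],[[],[],[],[],[(0,1)],[],[],[],[],[],[],[],[(1,1)],[]],[[],[],[],[],[],[(0,1)],[],[],[],[],[],[],[],[(1,1)]],[[],[],[],[],[],[],[(0,1)],[],[],[],[],[],[],[]],[[],[],[],[],[],[],[],[(0,1)],[],[],[],[],[(3,2)],[]],[[],[],[],[],[],[],[],[],[(0,1)],[],[],[],[],[(3,1)]],[[],[],[],[],[],[],[],[],[],[(0,1)],[],[],[],[]],[[],[],[],[],[],[],[],[],[],[],[(0,1)],[],[],[]],[[],[],[],[],[],[],[],[],[],[],[],[(0,1)],[],[]],[[],[],[],[],[],[],[],[],[],[],[],[],[(0,1)],[]],[[],[],[],[],[],[],[],[],[],[],[],[],[],[(0,1)]]],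
  [[[(0,1)],[],[],[],[(1,2)],[],[],[],[],[],[],[],[],[]],[[],[(0,1)],[],[],[],[],[],[],[],[],[],[],[],[]],[[],[],[(0,1)],[],[],[],[(1,1)],[],[],[],[],[],[],[]],[[],[],[],[(0,1)],[],[],[],[],[],[],[],[],[(1,1)],[]],[[],[],[],[],[(0,1)],[],[],[],[],[],[],[],[],[]],[[],[],[],[],[],[(0,1)],[],[],[],[],[],[],[],[]],[[],[],[],[],[],[],[(0,1)],[],[],[],[],[],[],[]],[[],[],[],[],[],[],[],[(0,1)],[],[(1,2)],[],[],[],[]],[[],[],[],[],[],[],[],[],[(0,1)],[],[(1,1)],[],[(2,2)],[]],[[],[],[],[],[],[],[],[],[],[(0,1)],[],[],[],[]],[[],[],[],[],[],[],[],[],[],[],[(0,1)],[],[(1,1)],[]],[[],[],[],[],[],[],[],[],[],[],[],[(0,1)],[],[(1,1)]],[[],[],[],[],[],[],[],[],[],[],[],[],[(0,1)],[]],[[],[],[],[],[],[],[],[],[],[],[],[],[],[(0,1)]]],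
  [[[(0,1)],[],[],[],[],[(1,2)],[],[],[],[],[],[],[],[]],[[],[(0,1)],[],[],[],[],[(1,1)],[],[],[],[],[],[],[]],[[],[],[(0,1)],[],[],[],[],[],[],[],[],[],[],[]],[[],[],[],[(0,1)],[],[],[],[],[],[],[],[],[],[(1,1)]],[[],[],[],[],[(0,1)],[],[],[],[],[],[],[],[],[]],[[],[],[],[],[],[(0,1)],[],[],[],[],[],[],[],[]],[[],[],[],[],[],[],[(0,1)],[],[],[],[],[],[],[]],[[],[],[],[],[],[],[],[(0,1)],[],[],[(1,2)],[],[],[(2,2)]],[[],[],[],[],[],[],[],[],[(0,1)],[],[],[(1,2)],[],[]],[[],[],[],[],[],[],[],[],[],[(0,1)],[],[],[(1,1)],[]],[[],[],[],[],[],[],[],[],[],[],[(0,1)],[],[],[(1,2)]],[[],[],[],[],[],[],[],[],[],[],[],[(0,1)],[],[]],[[],[],[],[],[],[],[],[],[],[],[],[],[(0,1)],[]],[[],[],[],[],[],[],[],[],[],[],[],[],[],[(0,1)]]]]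

def PT : List (List ℕ) :=
  [[0,0,0,0,0,0,0,2,0,0,0,0,0,0,0,0,0,0,0,0,0],[0,0,0,0,0,0,0,0,2,0,0,0,0,0,0,0,0,0,0,0,0],[1,0,0,0,0,0,0,0,0,0,0,0,0,0,2,0,0,0,0,0,0],[0,2,0,0,0,0,0,0,0,0,0,0,0,0,0,2,0,0,0,0,0],[0,0,1,0,0,0,0,0,0,0,0,0,0,0,0,0,1,0,0,0,0],[0,0,0,1,0,0,0,0,0,0,0,0,0,0,0,0,0,2,0,0,0],[2,0,0,0,0,0,0,0,0,0,0,0,0,0,0,0,0,0,0,0,0],[0,2,0,0,0,0,0,0,0,0,0,0,0,0,0,0,0,0,0,0,0],[0,0,0,0,0,0,0,0,0,1,0,0,0,0,0,0,0,0,0,0,0],[0,0,0,2,0,0,0,0,0,0,1,0,0,0,0,0,0,0,0,0,0],[0,0,0,0,1,0,0,0,0,0,0,0,0,0,0,0,0,0,1,0,0],[0,0,2,0,0,0,0,0,0,0,0,0,0,0,0,0,0,0,0,0,0],[0,0,0,2,0,0,0,0,0,0,2,0,0,0,0,0,0,0,0,0,0],[0,0,0,0,0,0,0,0,0,0,0,1,0,0,0,0,0,0,0,0,0],[0,0,0,0,0,2,0,0,0,0,0,0,0,0,0,0,0,0,0,2,0],[0,0,0,0,2,0,0,0,0,0,0,0,0,0,0,0,0,0,0,0,0],[0,0,0,0,0,2,0,0,0,0,0,0,0,0,0,0,0,0,0,0,0],[0,0,0,0,0,0,1,0,0,0,0,0,0,0,0,0,0,0,0,0,2],[0,0,0,0,0,0,2,0,0,0,0,0,0,0,0,0,0,0,0,0,0],[0,0,0,0,0,0,0,0,0,0,0,0,2,0,0,0,0,0,0,0,0],[0,0,0,0,0,0,0,0,0,0,0,0,0,2,0,0,0,0,0,0,0]]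

def QT : List (List ℕ) :=
  [[0,0,0,0,0,0,2,0,0,0,0,0,0,0,0,0,0,0,0,0,0],[0,0,0,0,0,0,0,2,0,0,0,0,0,0,0,0,0,0,0,0,0],[0,0,0,0,0,0,0,0,0,0,0,2,0,0,0,0,0,0,0,0,0],[0,0,0,0,0,0,0,0,0,1,0,0,1,0,0,0,0,0,0,0,0],[0,0,0,0,0,0,0,0,0,0,0,0,0,0,0,2,0,0,0,0,0],[0,0,0,0,0,0,0,0,0,0,0,0,0,0,0,0,2,0,0,0,0],[0,0,0,0,0,0,0,0,0,0,0,0,0,0,0,0,0,0,2,0,0],[2,0,0,0,0,0,0,0,0,0,0,0,0,0,0,0,0,0,0,0,0],[0,2,0,0,0,0,0,0,0,0,0,0,0,0,0,0,0,0,0,0,0],[0,0,0,0,0,0,0,0,1,0,0,0,0,0,0,0,0,0,0,0,0],[0,0,0,0,0,0,0,0,0,2,0,0,1,0,0,0,0,0,0,0,0],[0,0,0,0,0,0,0,0,0,0,0,0,0,1,0,0,0,0,0,0,0],[0,0,0,0,0,0,0,0,0,0,0,0,0,0,0,0,0,0,0,2,0],[0,0,0,0,0,0,0,0,0,0,0,0,0,0,0,0,0,0,0,0,2],[0,0,2,0,0,0,2,0,0,0,0,0,0,0,0,0,0,0,0,0,0],[0,0,0,2,0,0,0,1,0,0,0,0,0,0,0,0,0,0,0,0,0],[0,0,0,0,1,0,0,0,0,0,0,1,0,0,0,0,0,0,0,0,0],[0,0,0,0,0,2,0,0,0,1,0,0,1,0,0,0,0,0,0,0,0],[0,0,0,0,0,0,0,0,0,0,1,0,0,0,0,1,0,0,0,0,0],[0,0,0,0,0,0,0,0,0,0,0,0,0,0,2,0,1,0,0,0,0],[0,0,0,0,0,0,0,0,0,0,0,0,0,0,0,0,0,2,2,0,0]]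

def ST : List (List ℕ) :=
  [[0,0,0,0,0,0,1],[0,0,0,0,0,1,0],[0,0,0,0,1,0,0],[0,0,0,2,0,0,0],[0,0,1,0,0,0,0],[0,1,0,0,0,0,0],[1,0,0,0,0,0,0]]

def piL : List ℕ := [0,0,0,0,0,0,1,1,1,1,1,2,2,2,2,3,3,3,4,4,5]
def pjL : List ℕ := [1,2,3,4,5,6,2,3,4,5,6,3,4,5,6,4,5,6,5,6,6]

def epsL : List chevG2.Idx :=
  [.inr ⟨9, by decide⟩, .inr ⟨8, by decide⟩, .inr ⟨7, by decide⟩, .inl ⟨0, by decide⟩,
    .inr ⟨4, by decide⟩, .inr ⟨3, by decide⟩, .inr ⟨2, by decide⟩, .inr ⟨11, by decide⟩,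
    .inr ⟨10, by decide⟩, .inr ⟨6, by decide⟩, .inl ⟨1, by decide⟩, .inr ⟨5, by decide⟩,
    .inr ⟨1, by decide⟩, .inr ⟨0, by decide⟩]

def epsN (i : ℕ) : chevG2.Idx := epsL.getD i (.inl ⟨0, by decide⟩)

def pOf (p : Pol) : List (ℕ × ℕ) → Pol
  | [] => []
  | (e, c) :: l => padd (pmul (pcst c) (ppow p e)) (pOf p l)

/-- the root element `x_r(p)` in the reordered basis -/
def rootM (r : ℕ) (p : Pol) : PM := fun i j => pOf p (((XT.getD r []).getD i []).getD j [])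

def xPn (r i j : ℕ) : List (ℕ × ℕ) :=
  if h : r < chevG2.nroots then
    (xP chevG2 ⟨r, h⟩ (epsN i) (epsN j)).map fun km => (km.1, (km.2 % 3).toNat)
  else []

theorem tab_ok : allLt (fun r => meq 14 14 (fun i j => pOf (pvar 2) (xPn r i j))
    (rootM r (pvar 2))) 12 = true := by decide +kernel

abbrev I14 : Type := Fin 7 ⊕ Fin 7
abbrev I21 : Type := I14 ⊕ Fin 7

abbrev n7 : Num (Fin 7) 7 := numFin 7
abbrev n14 : Num I14 (7 + 7) := numSum n7 n7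
abbrev n21 : Num (Fin 21) 21 := numFin 21
abbrev m21 : Num I21 (7 + 7 + 7) := numSum n14 n7

def eps (i : I14) : chevG2.Idx := epsN (n14.f i)

theorem eps_bij : Function.Bijective eps := by
  rw [Fintype.bijective_iff_injective_and_card]
  exact ⟨by decide +kernel, by decide +kernel⟩

noncomputable def epsE : I14 ≃ chevG2.Idx := Equiv.ofBijective eps eps_bij

def pi' (a : Fin 21) : Fin 7 := ⟨piL.getD a 0 % 7, Nat.mod_lt _ (by decide)⟩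
def pj' (a : Fin 21) : Fin 7 := ⟨pjL.getD a 0 % 7, Nat.mod_lt _ (by decide)⟩

/-- exterior square -/
def L2 {R : Type*} [CommRing R] (A : Matrix (Fin 7) (Fin 7) R) : Matrix (Fin 21) (Fin 21) R :=
  Matrix.of fun a b => A (pi' a) (pi' b) * A (pj' a) (pj' b) - A (pi' a) (pj' b) * A (pj' a) (pi' b)

def L2p (A : PM) : PM := fun a b =>
  padd (pmul (A (piL.getD a 0 % 7) (piL.getD b 0 % 7)) (A (pjL.getD a 0 % 7) (pjL.getD b 0 % 7)))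
    (pneg (pmul (A (piL.getD a 0 % 7) (pjL.getD b 0 % 7))
      (A (pjL.getD a 0 % 7) (piL.getD b 0 % 7))))

theorem cauchy {R : Type*} [CommRing R] (u v x y : Fin 7 → R) :
    (∑ k, u k * x k) * (∑ k, v k * y k) - (∑ k, u k * y k) * (∑ k, v k * x k) =
      ∑ a : Fin 21, (u (pi' a) * v (pj' a) - u (pj' a) * v (pi' a)) *
        (x (pi' a) * y (pj' a) - y (pi' a) * x (pj' a)) := by
  simp only [Fin.sum_univ_succ, Fin.sum_univ_zero]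
  simp only [pi', pj', piL, pjL]
  simp
  ring

theorem L2_mul {R : Type*} [CommRing R] (A B : Matrix (Fin 7) (Fin 7) R) :
    L2 (A * B) = L2 A * L2 B := by
  ext a b
  simp only [L2, of_apply, mul_apply]
  exact cauchy _ _ _ _

theorem L2_one {R : Type*} [CommRing R] : L2 (1 : Matrix (Fin 7) (Fin 7) R) = 1 := by
  have h : ∀ a b : Fin 21, ((pi' a = pi' b ∧ pj' a = pj' b) ↔ a = b) ∧
      ¬ (pi' a = pj' b ∧ pj' a = pi' b) := by decide +kernel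
  ext a b
  simp only [L2, of_apply, one_apply]
  obtain ⟨h1, h2⟩ := h a b
  by_cases e : a = b
  · subst e
    have : ¬ pi' a = pj' a := fun e => h2 ⟨e, e.symm⟩
    simp [this]
  · rw [← h1] at e
    rw [if_neg (fun e' => e (h1.2 e'))]
    split_ifs <;> simp_all

theorem L2_map {R R' : Type*} [CommRing R] [CommRing R'] (φ : R →+* R')
    (A : Matrix (Fin 7) (Fin 7) R) : L2 (A.map φ) = (L2 A).map φ := by
  ext a b
  simp [L2]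

variable {K : Type*} [Field K] [CharP K 3]

theorem fmat_L2p (x : ℕ → K) (A : PM) : fmat n21 n21 x (L2p A) = L2 (fmat n7 n7 x A) := by
  ext a b
  simp only [fmat_apply, L2p, ev_padd, ev_pmul, ev_pneg, L2, of_apply, sub_eq_add_neg]
  rfl

theorem ev_pOf (x : ℕ → K) (p : Pol) (l : List (ℕ × ℕ)) :
    ev x (pOf p l) = (l.map fun km => (km.2 : K) * ev x p ^ km.1).sum := by
  induction l with
  | nil => simp [pOf]
  | cons a l ih =>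
    obtain ⟨e, c⟩ := a
    rw [pOf, ev_padd, ev_pmul, ev_pcst, ev_ppow, ih]
    simp

theorem cast_toNat (c : ℤ) : (((c % 3).toNat : ℕ) : K) = (c : K) := by
  have h : ((c % 3).toNat : ℤ) = c % 3 := Int.toNat_of_nonneg (Int.emod_nonneg _ (by norm_num))
  rw [← Int.cast_natCast, h]
  have := CharP.intCast_eq_intCast_mod K 3 (a := c)
  simpa using this.symm

theorem fmat_rootM_ev (x : ℕ → K) (r : ℕ) (p : Pol) {ι κ : Type} [Fintype ι] [Fintype κ]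
    {M N : ℕ} (a : Num ι M) (b : Num κ N) :
    fmat a b x (rootM r p) = fmat a b (fun _ => ev x p) (rootM r (pvar 2)) := by
  ext i j
  simp only [fmat_apply, rootM, ev_pOf, ev_pvar _ Nat.prime_two]

theorem x_eq {r : ℕ} (hr : r < 12) (t : K) :
    (chevG2.x K r t).submatrix epsE epsE = fmat n14 n14 (fun _ => t) (rootM r (pvar 2)) := by
  rw [← fmat_eq_of_meq n14 n14 _ (allLt_spec tab_ok hr)]
  ext i j
  have hr' : r < chevG2.nroots := hr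
  rw [submatrix_apply, ChevalleyDatum.x, dif_pos hr', xMat_eq, fmat_apply, ev_pOf, xPn,
    dif_pos hr', List.map_map, ev_pvar _ Nat.prime_two]
  congr 1
  refine List.map_congr_left fun km _ => ?_
  simp [cast_toNat]

theorem x_eq' {r : ℕ} (hr : r < 12) (x : ℕ → K) (p : Pol) :
    (chevG2.x K r (ev x p)).submatrix epsE epsE = fmat n14 n14 x (rootM r p) := by
  rw [x_eq hr, fmat_rootM_ev x r p]

end Cfsg.Agent.Spec.Ree
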