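import Cfsg.Agent.Spec.Arf

/-!
Cyclic tori of orthogonal groups in characteristic two, by restriction of scalars.
-/

set_option autoImplicit false
set_option linter.unusedSectionVars false

namespace Cfsg.Agent.Spec

open Matrix Module

section res

variable {F K : Type*} [Field F] [Field K] [Algebra F K] {l : Type*} [Fintype l] [DecidableEq l]

/-- restriction of scalars for `2 × 2` matrices -/
noncomputable def resHom (B : Basis l F (K × K)) : Matrix (Fin 2) (Fin 2) K →* Matrix l l F where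
  toFun M := LinearMap.toMatrix B B
    ((Matrix.toLin (Basis.finTwoProd K) (Basis.finTwoProd K) M).restrictScalars F)
  map_one' := by
    rw [Matrix.toLin_one]
    exact LinearMap.toMatrix_id B
  map_mul' M N := by
    rw [Matrix.toLin_mul _ (Basis.finTwoProd K), LinearMap.restrictScalars_comp,
      LinearMap.toMatrix_comp _ B]

theorem resHom_injective (B : Basis l F (K × K)) : Function.Injective (resHom B) :=
  fun _ _ h => (Matrix.toLin _ _).injective
    (LinearMap.restrictScalars_injective F ((LinearMap.toMatrix B B).injective h))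

theorem resHom_mulVec (B : Basis l F (K × K)) (a b c d : K) (z : K × K) :
    resHom B !![a, b; c, d] *ᵥ B.repr z = B.repr (a * z.1 + b * z.2, c * z.1 + d * z.2) := by
  rw [← Matrix.toLin_finTwoProd_apply]
  exact LinearMap.toMatrix_mulVec_repr B B _ z

variable [Finite F] [Finite K] [CharP F 2] [CharP K 2]

theorem trace_sq (x : K) : Algebra.trace F K (x ^ 2) = Algebra.trace F K x ^ 2 := by
  have := Algebra.trace_eq_of_equiv_equiv (frobeniusEquiv F 2) (frobeniusEquiv K 2)
    (by ext y; simp [frobenius_def]) x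
  rw [RingEquiv.eq_symm_apply] at this
  exact this.symm

theorem mem_wp_of_trace {x : K} (h : Algebra.trace F K x ∈ wp F) : x ∈ wp K := by
  by_contra hx
  have h1 : ∀ y ∈ wp K, Algebra.trace F K y ∈ wp F := by
    rintro _ ⟨y, rfl⟩
    exact mem_wp.2 ⟨Algebra.trace F K y, by rw [← trace_sq, ← map_add]; rfl⟩
  have h2 : wp F = ⊤ := by
    rw [eq_top_iff]
    intro a _
    obtain ⟨y, rfl⟩ := Algebra.trace_surjective F K a
    by_cases hy : y ∈ wp K
    · exact h1 y hy
    · have := add_mem h (h1 _ (add_mem_wp hx hy))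
      rwa [map_add, ← add_assoc, CharTwo.add_self_eq_zero, zero_add] at this
  have h3 := wp_index (F := F)
  rw [h2, AddSubgroup.index_top] at h3
  exact absurd h3 (by decide)

theorem trace_mul_sq (b : Basis l F K) (a x : K) :
    Algebra.trace F K (a * x ^ 2) = ∑ i, Algebra.trace F K (a * b i ^ 2) * b.repr x i ^ 2 := by
  conv_lhs => rw [← b.sum_repr x, CharTwo.sum_sq, Finset.mul_sum, map_sum]
  refine Finset.sum_congr rfl fun i _ => ?_
  rw [smul_pow, mul_smul_comm, map_smul, smul_eq_mul, mul_comm]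

theorem trace_mul_eq_sum (b : Basis l F K) (x y : K) :
    Algebra.trace F K (x * y) = ∑ i, b.repr x i * b.traceDual.repr y i := by
  conv_lhs => rw [← b.sum_repr x, Finset.sum_mul, map_sum]
  refine Finset.sum_congr rfl fun i _ => ?_
  rw [smul_mul_assoc, map_smul, smul_eq_mul, Basis.traceDual_repr_apply, Algebra.traceForm_apply,
    mul_comm y]

/-- the coefficients of the trace of the form `x y + a x² + d y²` -/
noncomputable def resC (b : Basis l F K) (a d : K) : l ⊕ l → F :=
  Sum.elim (fun i => Algebra.trace F K (a * b i ^ 2))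
    fun i => Algebra.trace F K (d * b.traceDual i ^ 2)

theorem qf_resC (b : Basis l F K) (a d : K) (z : K × K) :
    qf (Uc (resC b a d)) ((b.prod b.traceDual).repr z) =
      Algebra.trace F K (z.1 * z.2 + a * z.1 ^ 2 + d * z.2 ^ 2) := by
  rw [qf_Uc, map_add, map_add, trace_mul_eq_sum b, trace_mul_sq b, trace_mul_sq b.traceDual,
    Fintype.sum_sum_type, add_assoc]
  simp [resC]

theorem arf_resC (b : Basis l F K) (a d : K) : arf (resC b a d) = Algebra.trace F K (a * d) := by
  obtain ⟨a, rfl⟩ := exists_sq_eq a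
  obtain ⟨d, rfl⟩ := exists_sq_eq d
  rw [← mul_pow, trace_sq, trace_mul_eq_sum b.traceDual, CharTwo.sum_sq, arf]
  refine Finset.sum_congr rfl fun i _ => ?_
  simp only [resC, Sum.elim_inl, Sum.elim_inr, ← mul_pow, trace_sq, Basis.traceDual_repr_apply,
    Algebra.traceForm_apply]

theorem ex_res {n : ℕ} (hn : finrank F K = n) {a d m₁ m₂ m₃ m₄ : K}
    (h : ∀ x y : K, (m₁ * x + m₂ * y) * (m₃ * x + m₄ * y) + a * (m₁ * x + m₂ * y) ^ 2 +
      d * (m₃ * x + m₄ * y) ^ 2 = x * y + a * x ^ 2 + d * y ^ 2)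
    {m : ℕ} (hm : Odd m) (ho : orderOf !![m₁, m₂; m₃, m₄] = m) :
    Ex F n (Algebra.trace F K (a * d)) m 0 False := by
  let b := Module.finBasisOfFinrankEq F K hn
  have h1 : orderOf (resHom (b.prod b.traceDual) !![m₁, m₂; m₃, m₄]) = m := by
    rw [orderOf_injective _ (resHom_injective _), ho]
  refine ⟨Fin n, inferInstance, inferInstance, resC b a d, _, by simp, arf_resC b a d,
    IsO.dk_of_odd (nd_Uc _) (fun v => ?_) hm (h1 ▸ pow_orderOf_eq_one _), h1, False.elim⟩
  obtain ⟨z, rfl⟩ := (b.prod b.traceDual).equivFun.surjective v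
  rw [Basis.equivFun_apply, resHom_mulVec, qf_resC, qf_resC, h]

end res

section torus

variable {F : Type*} [Field F] [Fintype F] [CharP F 2]

theorem even_card_char_two : Even (Fintype.card F) := by
  obtain ⟨n, -, hn⟩ := FiniteField.card F 2
  rw [hn]
  exact (Nat.even_pow.2 ⟨even_two, n.ne_zero⟩)

theorem odd_card_pow_add_one {n : ℕ} (hn : n ≠ 0) : Odd (Fintype.card F ^ n + 1) :=
  (Nat.even_pow.2 ⟨even_card_char_two, hn⟩).add_one

theorem odd_card_pow_sub_one {n : ℕ} (hn : n ≠ 0) : Odd (Fintype.card F ^ n - 1) :=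
  Nat.Even.sub_odd (Nat.one_le_pow _ _ Fintype.card_pos)
    (Nat.even_pow.2 ⟨even_card_char_two, hn⟩) odd_one

theorem ex_torus_plus {n : ℕ} (hn : n ≠ 0) : Ex F n 0 (Fintype.card F ^ n - 1) 0 False := by
  have : NeZero n := ⟨hn⟩
  let K := FiniteField.Extension F 2 n
  have : CharP K 2 := charP_of_injective_algebraMap (algebraMap F K).injective 2
  obtain ⟨γ, hγ⟩ := IsCyclic.exists_ofOrder_eq_natCard (α := Kˣ)
  rw [Nat.card_units, FiniteField.natCard_extension, Nat.card_eq_fintype_card] at hγ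
  have := ex_res (F := F) (K := K) (FiniteField.finrank_extension F 2 n) (a := 0) (d := 0)
    (m₁ := γ) (m₂ := 0) (m₃ := 0) (m₄ := (γ⁻¹ : Kˣ)) (fun x y => by
      simp only [zero_mul, add_zero, zero_add]
      rw [mul_mul_mul_comm, Units.mul_inv, one_mul]) (odd_card_pow_sub_one (F := F) hn) (by
      rw [← hγ, orderOf_eq_orderOf_iff]
      intro k
      have e : (!![(γ : K), 0; 0, (γ⁻¹ : Kˣ)] : Matrix (Fin 2) (Fin 2) K) =
          diagonal ![(γ : K), (γ⁻¹ : Kˣ)] := by
        ext i j
        fin_cases i <;> fin_cases j <;> simp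
      rw [e, diagonal_pow, ← diagonal_one, diagonal_eq_diagonal_iff, Fin.forall_fin_two]
      simp [← Units.val_pow_eq_pow_val])
  simpa using this

theorem torus_aux₁ {L : Type*} [Field L] [CharP L 2] {α β μ : L} (h1 : α * β = 1)
    (h2 : (μ ^ 2 + μ) * (α + β) = 1) : μ * (α + 1) = 1 ∨ μ * (α + 1) = α := by
  have h7 : (μ * (α + 1) + 1) * (μ * (α + 1) + α) = 0 := by grind
  exact (mul_eq_zero.1 h7).imp CharTwo.add_eq_zero.1 CharTwo.add_eq_zero.1

theorem torus_aux₂ {L : Type*} [Field L] {α β μ : L} (h1 : μ * (α + 1) = 1)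
    (h2 : μ * (β + 1) = 1) : α = β := by grind

theorem torus_aux₃ {L : Type*} [Field L] {α β μ : L} (h1 : μ * (α + 1) = α)
    (h2 : μ * (β + 1) = β) : α = β := by grind

theorem torus_aux₄ {L : Type*} [Field L] [CharP L 2] {t s : L} (h : t * s = 1) (x y : L) :
    (0 * x + 1 * y) * (1 * x + t * y) + s * (0 * x + 1 * y) ^ 2 + s * (1 * x + t * y) ^ 2 =
      x * y + s * x ^ 2 + s * y ^ 2 := by grind

theorem ex_torus_minus {n : ℕ} (hn : n ≠ 0) :
    ∃ a, a ∉ wp F ∧ Ex F n a (Fintype.card F ^ n + 1) 0 False := by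
  have : NeZero n := ⟨hn⟩
  let K := FiniteField.Extension F 2 n
  have : CharP K 2 := charP_of_injective_algebraMap (algebraMap F K).injective 2
  have := Fintype.ofFinite K
  have hK : Fintype.card K = Fintype.card F ^ n := by
    rw [← Nat.card_eq_fintype_card, FiniteField.natCard_extension, Nat.card_eq_fintype_card]
  rw [← hK]
  obtain ⟨α, hα⟩ := exists_primroot (F := K) (Fintype.card K + 1) (by simp)
  have hα0 : α ≠ 0 := hα.ne_zero (Nat.succ_ne_zero _)
  have h1 : α ^ Fintype.card K = α⁻¹ :=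
    eq_inv_of_mul_eq_one_left (by rw [← pow_succ, hα.pow_eq_one])
  have h2 : α ≠ α⁻¹ := by
    intro h
    have := hα.dvd_of_pow_eq_one 2 (by rw [pow_two]; exact (mul_eq_one_iff_eq_inv₀ hα0).2 h)
    have := Nat.le_of_dvd two_pos this
    have := Fintype.one_lt_card (α := K)
    omega
  obtain ⟨t, ht⟩ := mem_range_of_pow_card (F := K) (α + α⁻¹)
    (by rw [frob_add, inv_pow, h1, inv_inv, add_comm])
  have ht0 : t ≠ 0 := by
    rintro rfl
    rw [map_zero, eq_comm, CharTwo.add_eq_zero] at ht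
    exact h2 ht
  refine ⟨_, fun h => ?_, ex_res (F := F) (K := K) (FiniteField.finrank_extension F 2 n)
    (a := t⁻¹) (d := t⁻¹) (m₁ := 0) (m₂ := 1) (m₃ := 1) (m₄ := t) (fun x y => ?_)
    (by rw [hK]; exact odd_card_pow_add_one hn) ?_⟩
  · obtain ⟨ν, hν⟩ := mem_wp.1 (mem_wp_of_trace h)
    obtain ⟨ν, rfl⟩ := exists_sq_eq ν
    have h3 : ν ^ 2 + ν = t⁻¹ := by
      apply frobenius_inj K 2
      rw [map_add, frobenius_def, frobenius_def, frobenius_def, hν, pow_two]
    have h4 := congrArg (algebraMap K (AlgebraicClosure K)) h3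
    rw [map_add, map_pow, map_inv₀, ht] at h4
    have h5 : algebraMap K (AlgebraicClosure K) ν ^ Fintype.card K = algebraMap K _ ν := by
      rw [← map_pow, FiniteField.pow_card]
    generalize algebraMap K (AlgebraicClosure K) ν = μ at h4 h5
    have h6 : α + α⁻¹ ≠ 0 := fun e => h2 (CharTwo.add_eq_zero.1 e)
    have h8 : ∀ u : AlgebraicClosure K, (u * (α + 1)) ^ Fintype.card K =
        u ^ Fintype.card K * (α⁻¹ + 1) := fun u => by rw [mul_pow, frob_add, h1, one_pow]
    apply h2
    rcases torus_aux₁ (mul_inv_cancel₀ hα0) ((mul_eq_one_iff_eq_inv₀ h6).2 h4) with h9 | h9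
    · have := h8 μ
      rw [h9, h5, one_pow] at this
      exact torus_aux₂ h9 this.symm
    · have := h8 μ
      rw [h9, h5, h1] at this
      exact torus_aux₃ h9 this.symm
  · exact torus_aux₄ (mul_inv_cancel₀ ht0) x y
  · rw [hα.eq_orderOf, ← orderOf_injective
      (algebraMap K (AlgebraicClosure K)).mapMatrix.toMonoidHom
      (Matrix.map_injective (algebraMap K (AlgebraicClosure K)).injective), orderOf_eq_orderOf_iff]
    intro k
    rw [pow_eq_one_iff_two _ α α⁻¹ (by simp [ht]) (by simp [hα0, CharTwo.neg_eq]) h2, inv_pow,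
      inv_eq_one, and_self]

end torus

end Cfsg.Agent.Spec
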