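import Cfsg.Agent.Spec.EigOrb
import Cfsg.Agent.Spec.Torus2

/-!
The element orders of `Sp₈(q)`, `q` even, of `O₈⁻(q)` and of the split extension of the natural
module by `Ω₈⁻(q)`.
-/

set_option autoImplicit false
set_option linter.unusedSectionVars false

namespace Cfsg.Agent.Spec

open Matrix

/-- the set of element orders of `Sp₈(q)`, `q` even -/
def Sp8Set (q : ℕ) : Set ℕ :=
  {n | ∃ M ∈ [q ^ 4 - 1, q ^ 4 + 1, (q ^ 3 + 1) * (q - 1), (q ^ 3 - 1) * (q + 1),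
    (q ^ 3 - 1) * 2, (q ^ 3 + 1) * 2, (q ^ 2 + 1) * (q - 1) * 2, (q ^ 2 + 1) * (q + 1) * 2,
    (q ^ 2 - 1) * 4, (q ^ 2 + 1) * 4, (q - 1) * 8, (q + 1) * 8], n ∣ M}

theorem coprime_of_eq_add_two {a b x y : ℕ} (hb : Odd b) (h : a * x = b * y + 2) :
    Nat.Coprime a b := by
  apply Nat.coprime_of_dvd
  intro p hp ha hb'
  have h1 : p ∣ 2 := (Nat.dvd_add_right (hb'.mul_right y)).1 (h ▸ ha.mul_right x)
  rw [Nat.prime_dvd_prime_iff_eq hp Nat.prime_two] at h1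
  subst h1
  exact (Nat.not_even_iff_odd.2 hb) (even_iff_two_dvd.2 hb')

section upper

variable {F : Type*} [Field F] [Fintype F] [CharP F 2] {l : Type*} [Fintype l] [DecidableEq l]
  [DecidableEq (AlgebraicClosure F)] {A : Matrix (l ⊕ l) (l ⊕ l) F}

theorem eig_ne_inv (hA : A ∈ symplecticGroup l F) :
    ∀ x ∈ eig A, x ≠ 1 → x ≠ x⁻¹ := by
  intro x hx h1 h2
  have := pow_eq_one_of_pow_char_mul 2 (m := 1)
    (sq_eq_one_of_inv_eq (ne_zero_of_mem_eig_symplectic hA hx) h2.symm)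
  exact h1 (by rwa [pow_one] at this)

theorem eigCl_symplectic (hA : A ∈ symplecticGroup l F) :
    EigCl (Fintype.card F) ((eig A).toFinset.erase 1) := by
  refine ⟨Fintype.card_pos, pow_card_injective, ?_, ?_, ?_, ?_⟩ <;>
    simp only [Finset.mem_erase, Multiset.mem_toFinset]
  · exact fun x hx => ne_zero_of_mem_eig_symplectic hA hx.2
  · exact fun x hx => eig_ne_inv hA x hx.2 hx.1
  · exact fun x hx => ⟨inv_ne_one.2 hx.1, inv_mem_eig_symplectic hA hx.2⟩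
  · exact fun x hx => ⟨fun e => hx.1 (pow_card_injective (F := F) _ _ (by rw [e, one_pow])),
      pow_card_mem_eig hx.2⟩

theorem orderOf_dvd_of_eig_erase {M j : ℕ} (hM : M ≠ 0)
    (h : ∀ y ∈ (eig A).toFinset.erase 1, y ^ M = 1) (hc : ∀ y, (eig A).count y ≤ 2 ^ j) :
    orderOf A ∣ M * 2 ^ j := by
  refine orderOf_dvd_of_pow_eq_one (pow_eq_one_of_eig 2 A hM j (fun x hx => ?_) hc)
  by_cases h1 : x = 1
  · rw [h1, one_pow]
  · exact h x (Finset.mem_erase.2 ⟨h1, Multiset.mem_toFinset.2 hx⟩)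

theorem sp8_ne_zero {q : ℕ} (hq : 1 < q) : q - 1 ≠ 0 ∧ q ^ 2 - 1 ≠ 0 ∧ q ^ 3 - 1 ≠ 0 ∧
    q ^ 4 - 1 ≠ 0 := by
  have h2 := Nat.one_lt_pow (n := 2) (by decide) hq
  have h3 := Nat.one_lt_pow (n := 3) (by decide) hq
  have h4 := Nat.one_lt_pow (n := 4) (by decide) hq
  omega

theorem sp8_mem_of_card (hA : A ∈ symplecticGroup l F) {n j : ℕ}
    (hn : ∀ M, M ≠ 0 → (∀ y ∈ (eig A).toFinset.erase 1, y ^ M = 1) → n ∣ M * 2 ^ j)
    (hc : (j = 1 ∧ ((eig A).toFinset.erase 1).card ≤ 7) ∨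
      (j = 2 ∧ ((eig A).toFinset.erase 1).card ≤ 5) ∨
      (j = 3 ∧ ((eig A).toFinset.erase 1).card ≤ 3)) : n ∈ Sp8Set (Fintype.card F) := by
  have hS := eigCl_symplectic hA
  obtain ⟨n1, n2, n3, n4⟩ := sp8_ne_zero (Fintype.one_lt_card (α := F))
  rcases hc with ⟨rfl, hc⟩ | ⟨rfl, hc⟩ | ⟨rfl, hc⟩
  · obtain ⟨M, hM, h⟩ := hS.p3 hc
    simp only [List.mem_cons, List.not_mem_nil, or_false] at hM
    rcases hM with rfl | rfl | rfl | rfl | rfl
    · exact ⟨_, by simp, hn _ n3 h⟩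
    · exact ⟨_, by simp, hn _ (by simp) h⟩
    · exact ⟨_, by simp, hn _ (by simp [n1]) h⟩
    · exact ⟨_, by simp, hn _ (by simp) h⟩
    · exact ⟨(Fintype.card F ^ 2 - 1) * 4, by simp,
        (hn _ n2 h).trans (Nat.mul_dvd_mul_left _ (by decide))⟩
  · rcases hS.p2 hc with h | h
    · exact ⟨_, by simp, hn _ n2 h⟩
    · exact ⟨_, by simp, hn _ (by simp) h⟩
  · rcases hS.p1 hc with h | h
    · exact ⟨_, by simp, hn _ n1 h⟩
    · exact ⟨_, by simp, hn _ (by simp) h⟩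

theorem sp8_order_mem (hl : Fintype.card l = 4) (hA : A ∈ symplecticGroup l F) :
    orderOf A ∈ Sp8Set (Fintype.card F) := by
  have hc : Multiset.card (eig A) = 8 := by simp [eig_card, hl]
  have key : ∀ k, 2 ≤ k → (¬ ∀ y, (eig A).count y < k) →
      ((eig A).toFinset.erase 1).card + k ≤ 8 := by
    intro k hk h
    push Not at h
    obtain ⟨y, hy⟩ := h
    exact hc ▸ card_erase_one_add_le (eig_symplectic_inv hA) (eig_ne_inv hA) (Or.inr hk) hy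
  by_cases h1 : ∀ y, (eig A).count y < 2
  · obtain ⟨n1, n2, n3, n4⟩ := sp8_ne_zero (Fintype.one_lt_card (α := F))
    obtain ⟨M, hM, h⟩ := (eigCl_symplectic hA).p4 (by
      have := card_erase_one_add_le (eig_symplectic_inv hA) (eig_ne_inv hA) (k := 0) (Or.inl rfl)
        (Nat.zero_le _)
      omega)
    have h2 : M ≠ 0 → orderOf A ∣ M := fun h0 => by
      simpa using orderOf_dvd_of_eig_erase (j := 0) h0 h fun y => Nat.lt_succ_iff.1 (h1 y)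
    simp only [List.mem_cons, List.not_mem_nil, or_false] at hM
    rcases hM with rfl | rfl | rfl | rfl
    · exact ⟨_, by simp, h2 n4⟩
    · exact ⟨_, by simp, h2 (by simp)⟩
    · exact ⟨_, by simp, h2 (by simp [n1])⟩
    · exact ⟨_, by simp, h2 (by simp [n3])⟩
  have k1 := key 2 le_rfl h1
  by_cases h2 : ∀ y, (eig A).count y < 3
  · exact sp8_mem_of_card hA (fun M h0 h => orderOf_dvd_of_eig_erase h0 h fun y =>
      Nat.lt_succ_iff.1 (h2 y)) (Or.inl ⟨rfl, by omega⟩)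
  have k2 := key 3 (by decide) h2
  by_cases h3 : ∀ y, (eig A).count y < 5
  · exact sp8_mem_of_card hA (fun M h0 h => orderOf_dvd_of_eig_erase h0 h fun y =>
      Nat.lt_succ_iff.1 (h3 y)) (Or.inr (Or.inl ⟨rfl, by omega⟩))
  have k3 := key 5 (by decide) h3
  exact sp8_mem_of_card hA (fun M h0 h => orderOf_dvd_of_eig_erase h0 h fun y =>
    (Multiset.count_le_card _ _).trans hc.le) (Or.inr (Or.inr ⟨rfl, by omega⟩))

theorem om8_order_mem (hl : Fintype.card l = 4) {c : l ⊕ l → F} (hA : Dk (Uc c) A 0) (hz : NZ A) :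
    orderOf A * 2 ∈ Sp8Set (Fintype.card F) := by
  have hS := hA.isO.mem_symplectic
  have hc : Multiset.card (eig A) = 8 := by simp [eig_card, hl]
  have h0 : orderOf A ≠ 0 := fun h => hz (by rw [h, Finset.sum_range_zero])
  obtain ⟨j, m, hm, e⟩ := Nat.exists_eq_two_pow_mul_odd h0
  have h1 := pow_orderOf_eq_one A
  rw [NZ, e, geom_sum_char_pow_mul (F := F) 2, Ne, ext_iff_mulVec, not_forall] at hz
  obtain ⟨w, hw⟩ := hz
  rw [zero_mulVec, ← mulVec_mulVec] at hw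
  have hp : 2 ^ j - 1 + 1 = 2 ^ j := Nat.sub_add_cancel Nat.one_le_two_pow
  set w' := (∑ i ∈ Finset.range m, (A ^ 2 ^ j) ^ i) *ᵥ w with hw'
  have h2 : (A - 1) ^ (2 ^ j - 1 + 1) *ᵥ w' = 0 := by
    rw [hw', mulVec_mulVec, pow_succ', mul_assoc, ← geom_sum_char_pow_mul (F := F) 2,
      mul_geom_sum, ← e, h1, sub_self, zero_mulVec]
  obtain ⟨u, hu, hu'⟩ : ∃ u, A *ᵥ u = u ∧ ∀ a : F, u ≠ a • ((A - 1) ^ (2 ^ j - 1) *ᵥ w') := by
    by_contra hcon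
    push Not at hcon
    obtain ⟨a, b, hab⟩ := Fintype.exists_pair_of_one_lt_card (α := l) (by omega)
    refine one_ne_zero ((hA.isO.dk_Uc_of_fix_line hab hw ?_ hcon).unique (nd_Uc c) hA)
    rwa [pow_succ', ← mulVec_mulVec, sub_mulVec, one_mulVec, sub_eq_zero] at h2
  have h3 := count_one_eig_ge hw h2 hu hu'
  have h4 := card_erase_one_add_le (eig_symplectic_inv hS) (eig_ne_inv hS) (Or.inl rfl) h3
  refine sp8_mem_of_card hS (j := j + 1) (fun M hM h => ?_) ?_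
  · have h5 := orderOf_dvd_of_eig_erase (j := 3) hM h fun y =>
      (Multiset.count_le_card _ _).trans hc.le
    have h6 : m ∣ M := (Nat.Coprime.pow_right 3 (Odd.coprime_two_right hm)).dvd_of_dvd_mul_right
      ((Dvd.intro_left _ e.symm).trans h5)
    rw [e, mul_comm _ m, mul_assoc, ← pow_succ]
    exact Nat.mul_dvd_mul_right h6 _
  · rw [hc] at h4
    rcases j with _ | _ | _ | j
    · left; omega
    · right; left; omega
    · right; right; omega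
    · have := Nat.one_le_two_pow (n := j)
      omega

end upper

section lower

variable {F : Type*} [Field F] [Fintype F] [CharP F 2]

theorem sp8_coprime {q : ℕ} (hq : 1 ≤ q) (h : Even q) :
    Nat.Coprime (q ^ 2 + 1) (q ^ 2 - 1) ∧ Nat.Coprime (q ^ 3 + 1) (q - 1) ∧
      Nat.Coprime (q ^ 3 - 1) (q + 1) ∧ Nat.Coprime (q ^ 2 + 1) (q - 1) ∧
      Nat.Coprime (q ^ 2 + 1) (q + 1) ∧ q ^ 4 - 1 = (q ^ 2 + 1) * (q ^ 2 - 1) := by
  have o1 : Odd (q - 1) := Nat.Even.sub_odd hq h odd_one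
  have o2 : Odd (q ^ 2 - 1) :=
    Nat.Even.sub_odd (Nat.one_le_pow _ _ hq) (Nat.even_pow.2 ⟨h, by decide⟩) odd_one
  have o3 : Odd (q ^ 3 - 1) :=
    Nat.Even.sub_odd (Nat.one_le_pow _ _ hq) (Nat.even_pow.2 ⟨h, by decide⟩) odd_one
  obtain ⟨r, rfl⟩ := Nat.exists_eq_add_of_le' hq
  have e2 : (r + 1) ^ 2 - 1 = r ^ 2 + 2 * r := Nat.sub_eq_of_eq_add (by ring)
  have e3 : (r + 1) ^ 3 - 1 = r ^ 3 + 3 * r ^ 2 + 3 * r := Nat.sub_eq_of_eq_add (by ring)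
  rw [Nat.add_sub_cancel] at o1 ⊢
  rw [e2] at o2 ⊢
  rw [e3] at o3 ⊢
  exact ⟨coprime_of_eq_add_two (x := 1) (y := 1) o2 (by ring),
    coprime_of_eq_add_two (x := 1) (y := r ^ 2 + 3 * r + 3) o1 (by ring),
    (coprime_of_eq_add_two (x := r ^ 2 + r + 1) (y := 1) o3 (by ring)).symm,
    coprime_of_eq_add_two (x := 1) (y := r + 2) o1 (by ring),
    coprime_of_eq_add_two (x := 1) (y := r) h.add_one (by ring),
    Nat.sub_eq_of_eq_add (by ring)⟩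

/-- the semisimple parts -/
theorem ex_semisimple : (∀ M ∈ [Fintype.card F ^ 4 - 1, Fintype.card F ^ 4 + 1,
      (Fintype.card F ^ 3 + 1) * (Fintype.card F - 1),
      (Fintype.card F ^ 3 - 1) * (Fintype.card F + 1)], ∃ a, a ∉ wp F ∧ Ex F 4 a M 0 False) ∧
    (∀ M ∈ [Fintype.card F ^ 3 - 1, Fintype.card F ^ 3 + 1,
      (Fintype.card F ^ 2 + 1) * (Fintype.card F - 1),
      (Fintype.card F ^ 2 + 1) * (Fintype.card F + 1)], Odd M ∧ ∃ a, Ex F 3 a M 0 False) ∧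
    (∀ M ∈ [Fintype.card F ^ 2 - 1, Fintype.card F ^ 2 + 1], Odd M ∧ ∃ a, Ex F 2 a M 0 False) ∧
    (∀ M ∈ [Fintype.card F - 1, Fintype.card F + 1], Odd M ∧ ∃ a, Ex F 1 a M 0 False) := by
  obtain ⟨c1, c2, c3, c4, c5, e⟩ := sp8_coprime Fintype.card_pos (even_card_char_two (F := F))
  obtain ⟨a1, b1, m1⟩ := ex_torus_minus (F := F) one_ne_zero
  obtain ⟨a2, b2, m2⟩ := ex_torus_minus (F := F) two_ne_zero
  obtain ⟨a3, b3, m3⟩ := ex_torus_minus (F := F) three_ne_zero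
  obtain ⟨a4, b4, m4⟩ := ex_torus_minus (F := F) four_ne_zero
  have p1 := ex_torus_plus (F := F) one_ne_zero
  have p2 := ex_torus_plus (F := F) two_ne_zero
  have p3 := ex_torus_plus (F := F) three_ne_zero
  have o1 := odd_card_pow_add_one (F := F) one_ne_zero
  have o2 := odd_card_pow_add_one (F := F) two_ne_zero
  have o3 := odd_card_pow_add_one (F := F) three_ne_zero
  have u1 := odd_card_pow_sub_one (F := F) one_ne_zero
  have u2 := odd_card_pow_sub_one (F := F) two_ne_zero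
  have u3 := odd_card_pow_sub_one (F := F) three_ne_zero
  rw [pow_one] at m1 p1 o1 u1
  simp only [List.forall_mem_cons, List.not_mem_nil, false_imp_iff, implies_true, and_true]
  refine ⟨⟨⟨a2, b2, ?_⟩, ⟨a4, b4, m4⟩, ⟨a3, b3, ?_⟩, ⟨a1, b1, ?_⟩⟩,
    ⟨⟨u3, _, p3⟩, ⟨o3, _, m3⟩, ⟨o2.mul u1, a2, ?_⟩, ⟨o2.mul o1, a2 + a1, ?_⟩⟩,
    ⟨⟨u2, _, p2⟩, ⟨o2, _, m2⟩⟩, ⟨u1, _, p1⟩, ⟨o1, _, m1⟩⟩
  · simpa [e] using m2.add_coprime p2 o2 c1
  · simpa using m3.add_coprime p1 o3 c2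
  · simpa using p3.add_coprime m1 u3 c3
  · simpa using m2.add_coprime p1 o2 c4
  · simpa using m2.add_coprime m1 o2 c5

variable {l : Type*} [Fintype l] [DecidableEq l]

theorem Ex.final_free {n n' M j : ℕ} {P : F → Prop} {z : Prop} (h : Odd M ∧ ∃ a, Ex F n a M 0 False)
    (h' : ∀ δ, ∃ d, P d ∧ Ex F n' δ (2 ^ j) d z) (hl : Fintype.card l = n + n') (c₀ : l ⊕ l → F) :
    ∃ g d, P d ∧ Dk (Uc c₀) g d ∧ orderOf g = M * 2 ^ j ∧ (z → NZ g) := by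
  obtain ⟨hM, a, h⟩ := h
  obtain ⟨d, hd, h'⟩ := h' (a + arf c₀)
  obtain ⟨g, h1⟩ := (h.add_coprime h' hM ((Odd.coprime_two_right hM).pow_right j)).final hl c₀ (by
    rw [← add_assoc, CharTwo.add_self_eq_zero, zero_add, CharTwo.add_self_eq_zero]
    exact zero_mem _)
  exact ⟨g, d, hd, by rwa [zero_add] at h1⟩

theorem exists_isO_of_sp8 (hl : Fintype.card l = 4) {c₀ : l ⊕ l → F} (hc : arf c₀ ∉ wp F) {n : ℕ}
    (hn : n ∈ Sp8Set (Fintype.card F)) : ∃ g, IsO (Uc c₀) g ∧ n ∣ orderOf g := by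
  obtain ⟨s4, s3, s2, s1⟩ := ex_semisimple (F := F)
  obtain ⟨M, hM, hn⟩ := hn
  have k4 : ∀ M, (∃ a, a ∉ wp F ∧ Ex F 4 a M 0 False) → n ∣ M →
      ∃ g, IsO (Uc c₀) g ∧ n ∣ orderOf g := by
    rintro M ⟨a, ha, h⟩ hn
    obtain ⟨g, h1, h2, -⟩ := h.final hl c₀ (add_mem_wp ha hc)
    exact ⟨g, h1.isO, h2 ▸ hn⟩
  have k : ∀ {M j : ℕ} {z : Prop}, (∃ g d, True ∧ Dk (Uc c₀) g d ∧ orderOf g = M * 2 ^ j ∧
      (z → NZ g)) → n ∣ M * 2 ^ j → ∃ g, IsO (Uc c₀) g ∧ n ∣ orderOf g := by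
    rintro M j z ⟨g, d, -, h1, h2, -⟩ hn
    exact ⟨g, h1.isO, h2 ▸ hn⟩
  have r1 : ∀ δ : F, ∃ d, True ∧ Ex F 1 δ (2 ^ 1) d True := fun δ => ⟨1, trivial, ex_refl δ⟩
  have r2 : ∀ δ : F, ∃ d, True ∧ Ex F 2 δ (2 ^ 2) d True := fun δ => ⟨1, trivial, ex_u4 δ⟩
  have r3 : ∀ δ : F, ∃ d, True ∧ Ex F 3 δ (2 ^ 3) d False := fun δ =>
    (ex_u6 δ).imp fun d h => ⟨trivial, h⟩
  simp only [List.mem_cons, List.not_mem_nil, or_false] at hM
  rcases hM with rfl | rfl | rfl | rfl | rfl | rfl | rfl | rfl | rfl | rfl | rfl | rfl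
  · exact k4 _ (s4 _ (by simp)) hn
  · exact k4 _ (s4 _ (by simp)) hn
  · exact k4 _ (s4 _ (by simp)) hn
  · exact k4 _ (s4 _ (by simp)) hn
  · exact k (Ex.final_free (s3 _ (by simp)) r1 hl c₀) hn
  · exact k (Ex.final_free (s3 _ (by simp)) r1 hl c₀) hn
  · exact k (Ex.final_free (s3 _ (by simp)) r1 hl c₀) hn
  · exact k (Ex.final_free (s3 _ (by simp)) r1 hl c₀) hn
  · exact k (Ex.final_free (s2 _ (by simp)) r2 hl c₀) hn
  · exact k (Ex.final_free (s2 _ (by simp)) r2 hl c₀) hn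
  · exact k (Ex.final_free (s1 _ (by simp)) r3 hl c₀) hn
  · exact k (Ex.final_free (s1 _ (by simp)) r3 hl c₀) hn

theorem exists_om_of_sp8 (hl : Fintype.card l = 4) {c₀ : l ⊕ l → F} (hc : arf c₀ ∉ wp F) {n : ℕ}
    (hn : n ∈ Sp8Set (Fintype.card F)) :
    ∃ g, Dk (Uc c₀) g 0 ∧ (n ∣ orderOf g ∨ (NZ g ∧ n ∣ orderOf g * 2)) := by
  obtain ⟨s4, s3, s2, s1⟩ := ex_semisimple (F := F)
  obtain ⟨M, hM, hn⟩ := hn
  have k4 : ∀ M, (∃ a, a ∉ wp F ∧ Ex F 4 a M 0 False) → n ∣ M →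
      ∃ g, Dk (Uc c₀) g 0 ∧ (n ∣ orderOf g ∨ (NZ g ∧ n ∣ orderOf g * 2)) := by
    rintro M ⟨a, ha, h⟩ hn
    obtain ⟨g, h1, h2, -⟩ := h.final hl c₀ (add_mem_wp ha hc)
    exact ⟨g, h1, Or.inl (h2 ▸ hn)⟩
  have k : ∀ {M j : ℕ}, (∃ g d, d = 0 ∧ Dk (Uc c₀) g d ∧ orderOf g = M * 2 ^ j ∧
      (True → NZ g)) → n ∣ M * (2 ^ j * 2) →
      ∃ g, Dk (Uc c₀) g 0 ∧ (n ∣ orderOf g ∨ (NZ g ∧ n ∣ orderOf g * 2)) := by
    rintro M j ⟨g, d, rfl, h1, h2, h3⟩ hn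
    exact ⟨g, h1, Or.inr ⟨h3 trivial, by rwa [h2, mul_assoc]⟩⟩
  have r1 : ∀ δ : F, ∃ d, d = 0 ∧ Ex F 1 δ (2 ^ 0) d True := fun δ => ⟨0, rfl, ex_triv δ⟩
  have r2 : ∀ δ : F, ∃ d, d = 0 ∧ Ex F 2 δ (2 ^ 1) d True := fun δ =>
    ⟨1 + 1, CharTwo.add_self_eq_zero 1, by
      simpa using (ex_refl δ).add (ex_refl 0) odd_one (by decide)⟩
  have r3 : ∀ δ : F, ∃ d, d = 0 ∧ Ex F 3 δ (2 ^ 2) d True := fun δ =>
    ⟨1 + 1, CharTwo.add_self_eq_zero 1, by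
      simpa using (ex_refl δ).add (ex_u4 0) odd_one (by decide)⟩
  simp only [List.mem_cons, List.not_mem_nil, or_false] at hM
  rcases hM with rfl | rfl | rfl | rfl | rfl | rfl | rfl | rfl | rfl | rfl | rfl | rfl
  · exact k4 _ (s4 _ (by simp)) hn
  · exact k4 _ (s4 _ (by simp)) hn
  · exact k4 _ (s4 _ (by simp)) hn
  · exact k4 _ (s4 _ (by simp)) hn
  · exact k (Ex.final_free (s3 _ (by simp)) r1 hl c₀) hn
  · exact k (Ex.final_free (s3 _ (by simp)) r1 hl c₀) hn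
  · exact k (Ex.final_free (s3 _ (by simp)) r1 hl c₀) hn
  · exact k (Ex.final_free (s3 _ (by simp)) r1 hl c₀) hn
  · exact k (Ex.final_free (s2 _ (by simp)) r2 hl c₀) hn
  · exact k (Ex.final_free (s2 _ (by simp)) r2 hl c₀) hn
  · exact k (Ex.final_free (s1 _ (by simp)) r3 hl c₀) hn
  · exact k (Ex.final_free (s1 _ (by simp)) r3 hl c₀) hn

theorem exists_arf_notMem (i : l) : ∃ c : l ⊕ l → F, arf c ∉ wp F := by
  obtain ⟨a, ha, -⟩ := ex_torus_minus (F := F) one_ne_zero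
  exact ⟨Sum.elim (Pi.single i 1) fun _ => a, by simpa [arf, Pi.single_apply] using ha⟩

/-- The spectrum of `Sp₈(q)` for even `q`. -/
theorem spec_psp8_even : Set.range (orderOf : PSp 4 F → ℕ) = Sp8Set (Fintype.card F) := by
  classical
  rw [spec_psp_eq_sp]
  ext n
  constructor
  · rintro ⟨g, rfl⟩
    rw [← orderOf_injective spMat spMat_injective]
    exact sp8_order_mem (by simp) (spMat_mem g)
  · intro hn
    obtain ⟨c, hc⟩ := exists_arf_notMem (F := F) (0 : Fin 4)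
    obtain ⟨g, h1, h2⟩ := exists_isO_of_sp8 (by simp) hc hn
    exact mem_spec_of_dvd ⟨⟨g, h1.mem_symplectic⟩,
      (orderOf_injective spMat spMat_injective _).symm⟩ h2

end lower

section omega

variable {F : Type*} [Field F] [CharP F 2] {ι : Type*} [Fintype ι] [DecidableEq ι]

/-- the kernel of the Dickson invariant -/
def OmK (U : Matrix ι ι F) (hU : Nd U) : Subgroup (GL ι F) where
  carrier := {g | Dk U g 0}
  one_mem' := Dk.one U
  mul_mem' ha hb := by simpa using Dk.mul hU ha hb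
  inv_mem' {g} hg := by
    have h1 : IsO U (g⁻¹ : GL ι F) := fun v => by
      rw [← Dk.isO hg, mulVec_mulVec, Units.mul_inv, one_mulVec]
    obtain ⟨d, hd⟩ := h1.exists_dk
    have h2 := Dk.mul hU hg hd
    rw [Units.mul_inv, zero_add] at h2
    exact h2.unique hU (Dk.one U) ▸ hd

theorem orderOf_coe_coe {G : Subgroup (GL ι F)} (g : G) :
    orderOf ((g : GL ι F) : Matrix ι ι F) = orderOf g := by
  rw [orderOf_units, Subgroup.orderOf_coe]

theorem nz_iff {G : Subgroup (GL ι F)} (g : G) :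
    NZ ((g : GL ι F) : Matrix ι ι F) ↔ ∃ v : ι → F, affNorm g v ≠ 0 := by
  rw [NZ, orderOf_coe_coe, Ne, ext_iff_mulVec, not_forall]
  simp only [affNorm_eq_mulVec, zero_mulVec, ne_eq]

theorem spec_aff_om8 [Fintype F] {l : Type*} [Fintype l] [DecidableEq l] (hl : Fintype.card l = 4)
    {c : l ⊕ l → F} (hc : arf c ∉ wp F) :
    Set.range (orderOf : Aff (OmK (Uc c) (nd_Uc c)) (l ⊕ l → F) → ℕ) =
      Sp8Set (Fintype.card F) := by
  classical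
  have hV : ∀ w : l ⊕ l → F, 2 • w = 0 := fun w => by rw [two_nsmul, vadd_self]
  ext n
  constructor
  · intro hn
    rcases (mem_spec_aff Nat.prime_two hV n).1 hn with ⟨g, rfl⟩ | ⟨g, v, hv, rfl⟩
    · rw [← orderOf_coe_coe]
      exact sp8_order_mem hl (Dk.isO g.2).mem_symplectic
    · rw [← orderOf_coe_coe]
      exact om8_order_mem hl g.2 ((nz_iff g).2 ⟨v, hv⟩)
  · intro hn
    obtain ⟨g, h1, h2⟩ := exists_om_of_sp8 hl hc hn
    obtain ⟨u, rfl⟩ := h1.isO.isUnit (nd_Uc c)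
    have e := orderOf_coe_coe (⟨u, h1⟩ : OmK (Uc c) (nd_Uc c))
    rcases h2 with h2 | ⟨h2, h3⟩
    · exact mem_spec_of_dvd (spec_subset_aff ⟨_, e.symm⟩) h2
    · obtain ⟨v, hv⟩ := (nz_iff (⟨u, h1⟩ : OmK (Uc c) (nd_Uc c))).1 h2
      exact mem_spec_of_dvd ((mem_spec_aff Nat.prime_two hV _).2
        (Or.inr ⟨_, v, hv, by rw [← e]⟩)) h3

end omega

end Cfsg.Agent.Spec
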